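import Groth.Agent.FunFldLib.Tate.Hurwitz
import Mathlib.FieldTheory.AlgebraicClosure

/-! `Σ e f = n` without the hypothesis on constants. -/

set_option autoImplicit false

open WithZero Finset
open Groth.Agent.FunFldLib.Tate (placeEquiv deg_placeEquiv)

namespace Groth.Agent.FunFldLib

open FunFld


variable {k K K' : Type*} [Field k] [Field K] [Field K'] [Algebra k K] [Algebra K K'] [Algebra k K']
  [IsScalarTower k K K'] [FiniteDimensional K K']

omit [Algebra k K'] [Algebra K K'] [IsScalarTower k K K'] [FiniteDimensional K K'] in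
theorem finite_constants (hK : IsFF0 k K) : FiniteDimensional k (algebraicClosure k K) := by
  have := finite_L hK (0 : Divisor k K)
  have hle : Subalgebra.toSubmodule (algebraicClosure k K).toSubalgebra ≤ FunFld.L (0 : Divisor k K) := fun x hx P => by
    rcases eq_or_ne x 0 with rfl | h0
    · simp
    · rw [Finsupp.coe_zero, Pi.zero_apply, exp_zero]
      exact (v_eq_one_of_algebraic P h0 (mem_algebraicClosure_iff.1 hx)).le
  exact Submodule.finiteDimensional_of_le hle

omit [Algebra k K'] [Algebra K K'] [IsScalarTower k K K'] [FiniteDimensional K K'] in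
theorem ff_constants (hK : IsFF0 k K) : IsFunctionField (algebraicClosure k K) K := by
  obtain ⟨x, hx, hfin⟩ := hK
  refine ⟨⟨x, fun h => hx (h.restrictScalars k), ?_⟩, fun y hy => ?_⟩
  · let L := IntermediateField.adjoin (algebraicClosure k K) ({x} : Set K)
    let E := IntermediateField.adjoin k ({x} : Set K)
    have hle : ∀ z : K, z ∈ E → z ∈ L := fun z hz => by
      have h : E ≤ L.restrictScalars k := IntermediateField.adjoin_le_iff.2
        (Set.singleton_subset_iff.2 (IntermediateField.mem_adjoin_simple_self _ x))
      exact h hz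
    let _ : Algebra E L := ((IntermediateField.inclusion (E := E) (F := L.restrictScalars k) hle).toRingHom).toAlgebra
    have : IsScalarTower E L K := IsScalarTower.of_algebraMap_eq fun _ => rfl
    exact Module.Finite.of_restrictScalars_finite E L K
  · exact ⟨⟨y, mem_algebraicClosure_iff.2 (hy.restrictScalars k)⟩, rfl⟩

theorem sum_ramIdx_deg0 (hK : IsFF0 k K) (P : Place k K) (Qs : Finset (Place k K'))
    (hQs : ∀ Q, Q ∈ Qs ↔ IsOver Q P) : ∑ Q ∈ Qs, ramIdx Q P * Q.deg = Module.finrank K K' * P.deg := by
  classical
  let C := algebraicClosure k K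
  have := finite_constants hK
  have : IsScalarTower C K K' := inferInstance
  have : IsScalarTower k C K' := IsScalarTower.of_algebraMap_eq fun c => IsScalarTower.algebraMap_apply k K K' c
  let eK : Place C K ≃ Place k K := placeEquiv
  let eK' : Place C K' ≃ Place k K' := placeEquiv
  have h := sum_ramIdx_deg (ff_constants hK) (eK.symm P) (Qs.map eK'.symm.toEmbedding) fun Q => by
    rw [Finset.mem_map_equiv, Equiv.symm_symm, hQs]; rfl
  rw [Finset.sum_map] at h
  simp only [Equiv.coe_toEmbedding] at h
  have hd : ∀ Q : Place k K', Q.deg = Module.finrank k C * (eK'.symm Q).deg := fun Q => by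
    conv_lhs => rw [← eK'.apply_symm_apply Q]
    exact deg_placeEquiv _
  have hdP : P.deg = Module.finrank k C * (eK.symm P).deg := by
    conv_lhs => rw [← eK.apply_symm_apply P]
    exact deg_placeEquiv _
  rw [hdP, mul_left_comm, ← h, Finset.mul_sum]
  refine Finset.sum_congr rfl fun Q hQ => ?_
  obtain ⟨e, he⟩ := (hQs Q).1 hQ
  show _ = _ * (ramIdx (eK'.symm Q) (eK.symm P) * _)
  rw [hd Q, ramIdx_eq he, ramIdx_eq (show IsOverWith (eK'.symm Q) (eK.symm P) e from he)]
  ring

end Groth.Agent.FunFldLib
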