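import Groth.Agent.FunFldLib.Gal.Comap
import Groth.Agent.FunFldLib.Gal.SumRam
import Mathlib.RingTheory.Norm.Transitivity
import Mathlib.FieldTheory.Normal.Closure
import Mathlib.FieldTheory.IsAlgClosed.AlgebraicClosure

/-! The order of a norm. -/

set_option autoImplicit false

open WithZero Finset Polynomial
open scoped IntermediateField

namespace Groth.Agent.FunFldLib

open FunFld

variable {k K K' : Type*} [Field k] [Field K] [Field K'] [Algebra k K] [Algebra K K'] [Algebra k K']
  [IsScalarTower k K K'] [FiniteDimensional K K']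

theorem ord_norm (hK : IsFF0 k K) (P : Place k K) (x : K')
    (Qs : Finset (Place k K')) (hQs : ∀ Q, Q ∈ Qs ↔ IsOver Q P) :
    (P.deg : ℤ) * P.ord (Algebra.norm K x) = ∑ Q ∈ Qs, (Q.deg : ℤ) * Q.ord x := by
  classical
  rcases eq_or_ne x 0 with rfl | hx
  · simp [Place.ord]
  let L : IntermediateField K (AlgebraicClosure K') := IntermediateField.normalClosure K K' (AlgebraicClosure K')
  letI : Algebra k L := ((algebraMap K L).comp (algebraMap k K)).toAlgebra
  have : IsScalarTower k K L := IsScalarTower.of_algebraMap_eq fun _ => rfl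
  have : IsScalarTower k K' L := IsScalarTower.of_algebraMap_eq fun c => by
    rw [IsScalarTower.algebraMap_apply k K K', ← IsScalarTower.algebraMap_apply K K' L]; rfl
  have : Module.Finite K' L := Module.Finite.of_restrictScalars_finite K K' L
  have hK'0 : IsFF0 k K' := ff0_ext hK
  have hL0 : IsFF0 k L := ff0_ext hK
  set x' := algebraMap K' L x with hx'
  have hx'0 : x' ≠ 0 := (_root_.map_ne_zero _).2 hx
  set Rs := (finite_over_place (K' := L) hK P).toFinset with hRs
  have hRs' : ∀ R, R ∈ Rs ↔ IsOver R P := fun R => Set.Finite.mem_toFinset _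
  let S : L → ℤ := fun z => ∑ R ∈ Rs, (R.deg : ℤ) * R.ord z
  have hSmul : ∀ y z : L, y ≠ 0 → z ≠ 0 → S (y * z) = S y + S z := fun y z hy hz => by
    simp only [S, ord_mul _ hy hz, mul_add, Finset.sum_add_distrib]
  have hSprod : ∀ s : Multiset L, (∀ z ∈ s, z ≠ 0) → S s.prod = (s.map S).sum := fun s => by
    induction s using Multiset.induction with
    | empty => intro _; simp [S, ord_one]
    | cons a s ih =>
      intro h
      rw [Multiset.prod_cons, Multiset.map_cons, Multiset.sum_cons, hSmul _ _ (h a (Multiset.mem_cons_self a s))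
        (Multiset.prod_ne_zero fun h0 => h 0 (Multiset.mem_cons_of_mem h0) rfl),
        ih fun z hz => h z (Multiset.mem_cons_of_mem hz)]
  set f := minpoly K x
  have hfi : IsIntegral K x := .of_finite K x
  have hsplit : (f.map (algebraMap K L)).Splits := by
    have h := Normal.splits (inferInstance : Normal K L) x'
    rwa [hx', minpoly.algebraMap_eq (algebraMap K' L).injective] at h
  have hroot : ∀ r ∈ f.aroots L, S r = S x' := fun r hr => by
    obtain ⟨σ, hσ⟩ := minpoly.exists_algEquiv_of_root' (K := K) (L := L) (x := r) (y := x')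
      (IsIntegral.of_finite K x').isAlgebraic (by
        rw [hx', minpoly.algebraMap_eq (algebraMap K' L).injective]; exact (mem_aroots'.1 hr).2)
    rw [← hσ]
    refine Finset.sum_nbij' (fun R => comapPlace (σ.restrictScalars k) R)
      (fun R => comapPlace (σ.symm.restrictScalars k) R) (fun R hR => ?_) (fun R hR => ?_) (fun R _ => ?_)
      (fun R _ => ?_) fun R _ => by rw [deg_comapPlace, comapPlace_ord]; rfl
    · rw [hRs'] at hR ⊢
      exact hR.imp fun e => (over_comap_iff σ R P e).2
    · rw [hRs'] at hR ⊢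
      exact hR.imp fun e => (over_comap_iff σ.symm R P e).2
    · exact Subtype.ext (Valuation.ext fun z => congrArg R.1 (σ.apply_symm_apply z))
    · exact Subtype.ext (Valuation.ext fun z => congrArg R.1 (σ.symm_apply_apply z))
  -- the sum for an element of `K`
  have hbase : ∀ a : K, S (algebraMap K L a) = Module.finrank K L * (P.deg * P.ord a) := fun a => by
    rw [← mul_assoc, ← Nat.cast_mul, ← sum_ramIdx_deg0 hK P Rs hRs', Nat.cast_sum, Finset.sum_mul]
    refine Finset.sum_congr rfl fun R hR => ?_
    obtain ⟨e, he⟩ := (hRs' R).1 hR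
    rw [ord_map he, ramIdx_eq he]; push_cast; ring
  -- the sum for `x`
  have hlow : ∀ R ∈ Rs, ∃ Q ∈ Qs, IsOver R Q := fun R hR => by
    obtain ⟨Q, e, -, hQ⟩ := exists_over hK'0 R
    obtain ⟨P', e', -, hP'⟩ := exists_over hK Q
    obtain ⟨e'', he''⟩ := (hRs' R).1 hR
    obtain ⟨rfl, -⟩ := over_unique (over_trans hQ hP') he''
    exact ⟨Q, (hQs Q).2 ⟨e', hP'⟩, e, hQ⟩
  choose below hbelow hbover using hlow
  let g : Place k L → Place k K' := fun R => if h : R ∈ Rs then below R h else (exists_over hK'0 R).choose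
  have hg : ∀ R, R ∈ Rs → IsOver R (g R) := fun R h => by simp only [g, dif_pos h]; exact hbover R h
  have hgQ : ∀ R ∈ Rs, g R ∈ Qs := fun R h => by simp only [g, dif_pos h]; exact hbelow R h
  have htop : S x' = Module.finrank K' L * ∑ Q ∈ Qs, (Q.deg : ℤ) * Q.ord x := by
    rw [Finset.mul_sum]
    simp only [S]
    rw [← Finset.sum_fiberwise_of_maps_to hgQ]
    refine Finset.sum_congr rfl fun Q hQ => ?_
    have hmem : ∀ R, R ∈ Rs.filter (fun R => g R = Q) ↔ IsOver R Q := fun R => by
      rw [Finset.mem_filter]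
      refine ⟨fun h => h.2 ▸ hg R h.1, fun ⟨e, he⟩ => ?_⟩
      obtain ⟨e', he'⟩ := (hQs Q).1 hQ
      have hR : R ∈ Rs := (hRs' R).2 ⟨_, over_trans he he'⟩
      obtain ⟨e'', he''⟩ := hg R hR
      exact ⟨hR, (over_unique he'' he).1⟩
    rw [← mul_assoc, ← Nat.cast_mul, ← sum_ramIdx_deg0 (K := K') (K' := L) hK'0 Q _ hmem, Nat.cast_sum, Finset.sum_mul]
    refine Finset.sum_congr rfl fun R hR => ?_
    obtain ⟨e, he⟩ := (hmem R).1 hR
    rw [hx', ord_map he, ramIdx_eq he]; push_cast; ring
  have hN := congrArg S (Algebra.norm_eq_prod_roots (K := K) (F := L) (x := x) hsplit)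
  have hne : ∀ r ∈ f.aroots L, r ≠ 0 := fun r hr h0 => by
    subst h0
    have h := (mem_aroots'.1 hr).2
    rw [aeval_def, eval₂_at_zero, map_eq_zero] at h
    exact minpoly.coeff_zero_ne_zero hfi hx h
  set m := Module.finrank K⟮x⟯ K'
  have hpow : ∀ (z : L) (n : ℕ), z ≠ 0 → S (z ^ n) = n * S z := fun z n hz => by
    simp only [S, ord_pow _ hz, Finset.mul_sum]
    exact Finset.sum_congr rfl fun R _ => by ring
  rw [hbase, hpow _ _ (Multiset.prod_ne_zero fun h0 => hne 0 h0 rfl), hSprod _ hne,
    Multiset.map_congr rfl hroot, Multiset.map_const', Multiset.sum_replicate, htop,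
    show Multiset.card (f.aroots L) = f.natDegree by
      rw [aroots_def, ← hsplit.natDegree_eq_card_roots, natDegree_map],
    ← IntermediateField.adjoin.finrank hfi, nsmul_eq_mul] at hN
  have htower : (Module.finrank K K' : ℤ) = (m : ℤ) * Module.finrank K K⟮x⟯ := by
    rw [← Module.finrank_mul_finrank K K⟮x⟯ K']; push_cast; ring
  have hKL : (Module.finrank K L : ℤ) = Module.finrank K K' * Module.finrank K' L := by
    rw [← Module.finrank_mul_finrank K K' L]; push_cast; ring
  refine mul_left_cancel₀ (a := (Module.finrank K L : ℤ)) (by exact_mod_cast Module.finrank_pos.ne') ?_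
  rw [hN, hKL, htower]
  ring

end Groth.Agent.FunFldLib
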