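import Groth.Agent.FunFldLib.Gal.Comap
import Groth.Agent.FunFldLib.Gal.SumRam
import Mathlib.RingTheory.Valuation.RamificationGroup
import Mathlib.RingTheory.Norm.Transitivity
import Mathlib.FieldTheory.Galois.Basic

/-! The Galois group acting on places. -/

set_option autoImplicit false

open WithZero Finset
open scoped Pointwise

namespace Groth.Agent.FunFldLib.Gal

open FunFld Groth.Agent.FunFldLib

variable {k K K' : Type*} [Field k] [Field K] [Field K'] [Algebra k K] [Algebra K K'] [Algebra k K']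
  [IsScalarTower k K K']

noncomputable instance placeAction : MulAction (K' ≃ₐ[K] K') (Place k K') where
  smul σ Q := comapPlace (σ.symm.restrictScalars k) Q
  one_smul Q := Subtype.ext (Valuation.ext fun _ => rfl)
  mul_smul σ τ Q := Subtype.ext (Valuation.ext fun _ => rfl)

theorem smul_apply (σ : K' ≃ₐ[K] K') (Q : Place k K') (x : K') : (σ • Q).1 x = Q.1 (σ⁻¹ x) := rfl

theorem inv_smul_apply (σ : K' ≃ₐ[K] K') (Q : Place k K') (x : K') : (σ⁻¹ • Q).1 x = Q.1 (σ x) := rfl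

theorem deg_smul (σ : K' ≃ₐ[K] K') (Q : Place k K') : (σ • Q).deg = Q.deg := deg_comapPlace _ _

theorem over_smul_iff (σ : K' ≃ₐ[K] K') (Q : Place k K') (P : Place k K) (e : ℕ) :
    IsOverWith (σ • Q) P e ↔ IsOverWith Q P e := over_comap_iff σ.symm Q P e

/-- the decomposition group is the stabilizer -/
theorem smul_eq_iff (σ : K' ≃ₐ[K] K') (Q : Place k K') :
    σ • Q = Q ↔ σ ∈ Q.O.decompositionSubgroup K := by
  rw [ValuationSubring.decompositionSubgroup, MulAction.mem_stabilizer_iff]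
  have key : ∀ x, x ∈ σ • Q.O ↔ (σ • Q).1 x ≤ 1 := fun x => by
    rw [ValuationSubring.mem_pointwise_smul_iff_inv_smul_mem, smul_apply]; rfl
  refine ⟨fun h => SetLike.ext fun x => ?_, fun h => ext_of_le _ _ fun x hx => ?_⟩
  · rw [key, h]; rfl
  · rwa [← key, h] at hx

theorem stabilizer_eq (Q : Place k K') :
    MulAction.stabilizer (K' ≃ₐ[K] K') Q = Q.O.decompositionSubgroup K :=
  SetLike.ext fun σ => smul_eq_iff σ Q

variable [FiniteDimensional K K'] [IsGalois K K']

/-- transitivity -/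
theorem exists_smul_eq (hK : IsFF0 k K) {Q₁ Q₂ : Place k K'} {P : Place k K} (h₁ : IsOver Q₁ P) (h₂ : IsOver Q₂ P) :
    ∃ σ : K' ≃ₐ[K] K', σ • Q₁ = Q₂ := by
  classical
  by_contra hno
  push Not at hno
  obtain ⟨z, hz⟩ := approx_eq (finite_over_place (K' := K') hK P).toFinset (fun _ => 0)
    (fun R => if R = Q₂ then -1 else 0)
  have hzR : ∀ R : Place k K', IsOver R P → R ≠ Q₂ → R.1 z = 1 := fun R hR hne => by
    simpa [hne] using hz R ((Set.Finite.mem_toFinset _).2 hR)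
  have hz2 : Q₂.1 z = exp (-1) := by simpa using hz Q₂ ((Set.Finite.mem_toFinset _).2 h₂)
  have hN := Algebra.norm_eq_prod_automorphisms K z
  obtain ⟨e₁, he₁⟩ := h₁
  obtain ⟨e₂, he₂⟩ := h₂
  have h1 : Q₁.1 (algebraMap K K' (Algebra.norm K z)) = 1 := by
    rw [hN, map_prod]
    refine Finset.prod_eq_one fun σ _ => ?_
    rw [← inv_smul_apply]
    exact hzR _ ⟨e₁, (over_smul_iff _ _ _ _).2 he₁⟩ (hno _)
  have hP : P.1 (Algebra.norm K z) = 1 :=
    (pow_eq_one_iff_of_nonneg zero_le (over_pos he₁).ne').1 ((he₁ _).symm.trans h1)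
  have hle : ∀ σ : K' ≃ₐ[K] K', Q₂.1 (σ z) ≤ 1 := fun σ => by
    rw [← inv_smul_apply]
    rcases eq_or_ne (σ⁻¹ • Q₂) Q₂ with h | h
    · rw [h, hz2]; exact (exp_le_exp.2 (by omega)).trans_eq exp_zero
    · exact (hzR _ ⟨e₂, (over_smul_iff _ _ _ _).2 he₂⟩ h).le
  have h2 : Q₂.1 (algebraMap K K' (Algebra.norm K z)) < 1 := by
    rw [hN, ← Finset.mul_prod_erase _ _ (Finset.mem_univ (1 : K' ≃ₐ[K] K')), map_mul, map_prod]
    refine lt_of_le_of_lt (mul_le_of_le_one_right' (Finset.prod_le_one' fun σ _ => hle σ)) ?_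
    rw [AlgEquiv.one_apply, hz2]; exact (exp_lt_exp.2 (by omega)).trans_eq exp_zero
  rw [he₂, hP, one_pow] at h2
  exact lt_irrefl _ h2

theorem orbit_eq (hK : IsFF0 k K) {Q : Place k K'} {P : Place k K} {e : ℕ} (he : IsOverWith Q P e) :
    MulAction.orbit (K' ≃ₐ[K] K') Q = {Q' : Place k K' | IsOver Q' P} := by
  ext R
  refine ⟨fun ⟨σ, hσ⟩ => ⟨e, hσ ▸ (over_smul_iff σ Q P e).2 he⟩, fun hR => exists_smul_eq hK ⟨e, he⟩ hR⟩

theorem over_all (hK : IsFF0 k K) {Q : Place k K'} {P : Place k K} {e : ℕ} (he : IsOverWith Q P e)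
    {Q' : Place k K'} (h : IsOver Q' P) : IsOverWith Q' P e ∧ Q'.deg = Q.deg := by
  obtain ⟨σ, rfl⟩ := exists_smul_eq hK ⟨e, he⟩ h
  exact ⟨(over_smul_iff σ Q P e).2 he, deg_smul σ Q⟩

theorem card_over_mul (hK : IsFF0 k K) {Q : Place k K'} {P : Place k K} {e : ℕ} (he : IsOverWith Q P e) :
    Nat.card {Q' : Place k K' // IsOver Q' P} * Nat.card (Q.O.decompositionSubgroup K) = Module.finrank K K' := by
  rw [← IsGalois.card_aut_eq_finrank, ← stabilizer_eq, ← (MulAction.stabilizer (K' ≃ₐ[K] K') Q).index_mul_card,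
    MulAction.index_stabilizer, orbit_eq hK he]
  rfl

theorem card_decomp (hK : IsFF0 k K) {Q : Place k K'} {P : Place k K} {e : ℕ} (he : IsOverWith Q P e) :
    Nat.card (Q.O.decompositionSubgroup K) * P.deg = e * Q.deg := by
  classical
  set Qs := (finite_over_place (K' := K') hK P).toFinset
  have hQs : ∀ R, R ∈ Qs ↔ IsOver R P := fun R => Set.Finite.mem_toFinset _
  have h := sum_ramIdx_deg0 hK P Qs hQs
  rw [Finset.sum_congr rfl fun R hR => by
      rw [ramIdx_eq (over_all hK he ((hQs R).1 hR)).1, (over_all hK he ((hQs R).1 hR)).2],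
    Finset.sum_const, smul_eq_mul, ← card_over_mul hK he,
    show Nat.card {Q' : Place k K' // IsOver Q' P} = Qs.card from
      Nat.card_eq_card_finite_toFinset (finite_over_place (K' := K') hK P), mul_assoc] at h
  have hpos : 0 < Qs.card := Finset.card_pos.2 ⟨Q, (hQs Q).2 ⟨e, he⟩⟩
  exact (Nat.eq_of_mul_eq_mul_left hpos h).symm

end Groth.Agent.FunFldLib.Gal
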