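import Groth.Agent.FunFldLib.Ext

/-! Transport of places along field isomorphisms. -/

set_option autoImplicit false

open WithZero

namespace Groth.Agent.FunFldLib

open FunFld

variable {k K L : Type*} [Field k] [Field K] [Field L] [Algebra k K] [Algebra k L]

/-- the place `x ↦ v_Q (σ x)` -/
def comapPlace (σ : K ≃ₐ[k] L) (Q : Place k L) : Place k K :=
  ⟨Q.1.comap (σ : K →+* L), fun c => by
    show Q.1 (σ (algebraMap k K c)) ≤ 1
    rw [σ.commutes]; exact Q.2.1 c,
  fun γ => by
    obtain ⟨y, hy⟩ := Q.2.2 γ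
    exact ⟨σ.symm y, by show Q.1 (σ (σ.symm y)) = γ; rw [σ.apply_symm_apply]; exact hy⟩⟩

theorem comapPlace_apply (σ : K ≃ₐ[k] L) (Q : Place k L) (x : K) : (comapPlace σ Q).1 x = Q.1 (σ x) := rfl

theorem comapPlace_ord (σ : K ≃ₐ[k] L) (Q : Place k L) (x : K) : (comapPlace σ Q).ord x = Q.ord (σ x) := rfl

/-- transport of places as a bijection -/
noncomputable def comapEquiv (σ : K ≃ₐ[k] L) : Place k L ≃ Place k K where
  toFun := comapPlace σ
  invFun := comapPlace σ.symm
  left_inv Q := Subtype.ext (Valuation.ext fun x => congrArg Q.1 (σ.apply_symm_apply x))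
  right_inv Q := Subtype.ext (Valuation.ext fun x => congrArg Q.1 (σ.symm_apply_apply x))

theorem deg_comapPlace (σ : K ≃ₐ[k] L) (Q : Place k L) : (comapPlace σ Q).deg = Q.deg := by
  let g : (comapPlace σ Q).O ≃+* Q.O :=
    { toFun := fun x => ⟨σ x.1, x.2⟩
      invFun := fun y => ⟨σ.symm y.1, show Q.1 (σ (σ.symm y.1)) ≤ 1 by rw [σ.apply_symm_apply]; exact y.2⟩
      left_inv := fun x => Subtype.ext (σ.symm_apply_apply x.1)
      right_inv := fun y => Subtype.ext (σ.apply_symm_apply y.1)
      map_mul' := fun x y => Subtype.ext (map_mul σ x.1 y.1)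
      map_add' := fun x y => Subtype.ext (map_add σ x.1 y.1) }
  exact (AlgEquiv.ofRingEquiv (R := k) (f := IsLocalRing.ResidueField.mapEquiv g) fun c =>
    congrArg (IsLocalRing.residue Q.O) (Subtype.ext (σ.commutes c))).toLinearEquiv.finrank_eq

variable {M : Type*} [Field M] [Algebra k M] [Algebra M K] [Algebra M L] [IsScalarTower k M K] [IsScalarTower k M L]

omit [IsScalarTower k M K] [IsScalarTower k M L] in
theorem isOverWith_comapPlace (σ : K ≃ₐ[k] L) (hσ : ∀ m : M, σ (algebraMap M K m) = algebraMap M L m)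
    {Q : Place k L} {P : Place k M} {e : ℕ} (h : IsOverWith Q P e) : IsOverWith (comapPlace σ Q) P e := fun m => by
  rw [comapPlace_apply, hσ]; exact h m

/-- places of `L` over a place of `K` are permuted by `K`-automorphisms -/
theorem over_comap_iff {K' : Type*} [Field K'] [Algebra k K'] [Algebra M K'] [IsScalarTower k M K'] (σ : K' ≃ₐ[M] K')
    (Q : Place k K') (P : Place k M) (e : ℕ) :
    IsOverWith (comapPlace (σ.restrictScalars k) Q) P e ↔ IsOverWith Q P e := by
  refine forall_congr' fun m => ?_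
  rw [comapPlace_apply, AlgEquiv.restrictScalars_apply, σ.commutes]

end Groth.Agent.FunFldLib
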