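import Groth.Agent.FunFldLib.Gal.Teich
import Groth.Prelude.Def_LocRes
import Groth.Agent.FunFldLib.Hasse.Laurent
import Mathlib.FieldTheory.PrimitiveElement
import Mathlib.RingTheory.Ideal.Quotient.Operations
import Mathlib.RingTheory.PowerSeries.Trunc
import Mathlib.RingTheory.Valuation.Discrete.Basic

/-! Laurent expansions at separable places. -/

set_option autoImplicit false

open WithZero Polynomial
open LocRes (IsExpansionAt)
open scoped IntermediateField

namespace Groth.Agent.FunFldLib.Gal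

open FunFld Groth.Agent.FunFldLib

variable {k K : Type*} [Field k] [Field K] [Algebra k K] (P : Place k K)

/-- the powers of the maximal ideal -/
def mpow (n : ℕ) : Ideal P.O where
  carrier := {x | P.1 (x : K) ≤ exp (-(n : ℤ))}
  add_mem' {a b} ha hb := by
    simp only [Set.mem_ofPred_eq] at ha hb ⊢
    exact (Valuation.map_add _ _ _).trans (max_le ha hb)
  zero_mem' := by simp
  smul_mem' c x hx := by
    simp only [Set.mem_ofPred_eq] at hx ⊢
    show P.1 ((c * x : P.O) : K) ≤ _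
    rw [MulMemClass.coe_mul, map_mul]
    exact (mul_le_of_le_one_left zero_le c.2).trans hx

theorem mem_mpow {n : ℕ} {x : P.O} : x ∈ mpow P n ↔ P.1 (x : K) ≤ exp (-(n : ℤ)) := by
  show x ∈ {x : P.O | P.1 (x : K) ≤ exp (-(n : ℤ))} ↔ _
  simp only [Set.mem_ofPred_eq]

theorem mpow_anti {m n : ℕ} (h : m ≤ n) : mpow P n ≤ mpow P m := fun _ hx =>
  (mem_mpow P).2 (((mem_mpow P).1 hx).trans (exp_le_exp.2 (by omega)))

theorem exists_expansion_separable (hK : IsFF0 k K) [Algebra.IsSeparable k (IsLocalRing.ResidueField P.O)] :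
    ∃ φ : K →ₐ[k] LaurentSeries (IsLocalRing.ResidueField P.O), IsExpansionAt P.1 φ := by
  classical
  set κ := IsLocalRing.ResidueField P.O
  have hfd : FiniteDimensional k κ := Module.finite_of_finrank_pos (deg_pos hK P)
  have hfd' : @Module.Finite k κ _ _ Algebra.toModule := hfd
  obtain ⟨θ, hθ⟩ := @Field.exists_primitive_element k κ _ _ _ hfd' _
  obtain ⟨r, hr⟩ := IsLocalRing.residue_surjective θ
  set h := minpoly k θ with hh
  have hint : IsIntegral k θ := @IsIntegral.of_finite k κ _ _ _ hfd' θ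
  let pb : PowerBasis k κ := (IntermediateField.adjoin.powerBasis hint).map
    ((IntermediateField.equivOfEq hθ).trans IntermediateField.topEquiv)
  have hgen : pb.gen = θ := by simp [pb]
  have ha : ∀ n : ℕ, ∃ a : P.O, IsLocalRing.residue P.O a = θ ∧ P.1 ((aeval a h : P.O) : K) ≤ exp (-(n : ℤ)) ∧
      IsUnit (aeval a (derivative h)) := fun n => by
    obtain ⟨a, h1, h2⟩ := exists_teich_minpoly hK r n
    rw [hr] at h1 h2
    exact ⟨a, h1, h2⟩
  choose a hres hle hunit using ha
  have hσex : ∀ n : ℕ, ∃ σ : κ →ₐ[k] P.O ⧸ mpow P n, σ θ = Ideal.Quotient.mk (mpow P n) (a n) := fun n => by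
    have h0 : aeval (Ideal.Quotient.mk (mpow P n) (a n)) (minpoly k pb.gen) = 0 := by
      rw [hgen, ← Ideal.Quotient.mkₐ_eq_mk k, aeval_algHom_apply, Ideal.Quotient.mkₐ_eq_mk, Ideal.Quotient.eq_zero_iff_mem]
      exact (mem_mpow P).2 (hle n)
    exact ⟨pb.lift _ h0, by rw [← hgen, PowerBasis.lift_gen]⟩
  choose σ hσ using hσex
  obtain ⟨t₀, ht0, ht⟩ := exists_exp P (-1)
  let t : P.O := ⟨t₀, ht.trans_le ((exp_le_exp.2 (by omega)).trans_eq exp_zero)⟩
  let ψ : (n : ℕ) → κ[X] →+* P.O ⧸ mpow P n := fun n => eval₂RingHom (σ n).toRingHom (Ideal.Quotient.mk (mpow P n) t)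
  have hmkeq : ∀ (n : ℕ) (x y : P.O), Ideal.Quotient.mk (mpow P n) x = Ideal.Quotient.mk (mpow P n) y ↔
      P.1 ((x : K) - y) ≤ exp (-(n : ℤ)) := fun n x y => Ideal.Quotient.eq.trans (mem_mpow P)
  have hcompat : ∀ {m n : ℕ} (hmn : m ≤ n) (q : κ[X]),
      Ideal.Quotient.factor (mpow_anti P hmn) (ψ n q) = ψ m q := fun {m n} hmn q => by
    have h1 : (Ideal.Quotient.factorₐ k (mpow_anti P hmn)).comp (σ n) = σ m := pb.algHom_ext (by
      rw [hgen, AlgHom.comp_apply, hσ, hσ]
      show Ideal.Quotient.factor (mpow_anti P hmn) (Ideal.Quotient.mk (mpow P n) (a n)) = _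
      rw [Ideal.Quotient.factor_mk, hmkeq]
      exact teich_unique h (hle m) ((hle n).trans (exp_le_exp.2 (by omega))) (hunit m) (by rw [hres, hres]))
    simp only [ψ, coe_eval₂RingHom, hom_eval₂]
    congr 1
    exact congrArg AlgHom.toRingHom h1
  have hconst : ∀ (n : ℕ) (c : κ) (x : P.O), 1 ≤ n → σ n c = Ideal.Quotient.mk (mpow P n) x →
      IsLocalRing.residue P.O x = c := fun n c x hn hx => by
    let resA : P.O ⧸ mpow P n →ₐ[k] κ := Ideal.Quotient.liftₐ (mpow P n)
      { IsLocalRing.residue P.O with commutes' := fun _ => rfl }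
      fun y hy => (residue_lt_iff y).2 (lt_of_le_of_lt ((mem_mpow P).1 hy) ((exp_lt_exp.2 (by omega)).trans_eq exp_zero))
    have h1 : resA.comp (σ n) = AlgHom.id k κ := pb.algHom_ext (by
      rw [hgen, AlgHom.comp_apply, hσ, AlgHom.id_apply]; exact hres n)
    have := DFunLike.congr_fun h1 c
    rw [AlgHom.comp_apply, hx, AlgHom.id_apply] at this
    exact this
  have hker : ∀ (n : ℕ) (q : κ[X]), ψ n q = 0 → ∀ i < n, q.coeff i = 0 := fun n q hq i hi => by
    by_contra hne
    have hq0 : q ≠ 0 := fun h => hne (by rw [h, coeff_zero])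
    obtain ⟨j, hjn, hj, hlow⟩ : ∃ j, j < n ∧ q.coeff j ≠ 0 ∧ ∀ l < j, q.coeff l = 0 := by
      have hex : ∃ j, q.coeff j ≠ 0 := ⟨i, hne⟩
      exact ⟨Nat.find hex, lt_of_le_of_lt (Nat.find_min' hex hne) hi, Nat.find_spec hex,
        fun l hl => not_not.1 (Nat.find_min hex hl)⟩
    obtain ⟨q', rfl⟩ := X_pow_dvd_iff.2 hlow
    have hc : q'.coeff 0 ≠ 0 := by rwa [coeff_X_pow_mul', if_pos le_rfl, Nat.sub_self] at hj
    obtain ⟨r', hr'⟩ := Ideal.Quotient.mk_surjective (ψ n q')
    have hunit' : IsLocalRing.residue P.O r' ≠ 0 := by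
      have h1 := hcompat (show 1 ≤ n by omega) q'
      rw [← hr', Ideal.Quotient.factor_mk] at h1
      have h2 : ψ 1 q' = σ 1 (q'.coeff 0) := by
        conv_lhs => rw [← divX_mul_X_add q']
        have ht1 : Ideal.Quotient.mk (mpow P 1) t = 0 := Ideal.Quotient.eq_zero_iff_mem.2 ((mem_mpow P).2 (le_of_eq ht))
        simp [ψ, ht1]
      rw [h2] at h1
      rw [hconst 1 _ r' le_rfl h1.symm]; exact hc
    have hv : P.1 (r' : K) = 1 := (lt_or_eq_of_le r'.2).resolve_left fun h => hunit' ((residue_lt_iff r').2 h)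
    have h3 : Ideal.Quotient.mk (mpow P n) (t ^ j * r') = 0 := by
      rw [map_mul, map_pow, hr', ← hq, map_mul, map_pow]
      simp [ψ]
    rw [Ideal.Quotient.eq_zero_iff_mem, mem_mpow, MulMemClass.coe_mul, map_mul, hv, mul_one, SubmonoidClass.coe_pow, map_pow,
      show P.1 (t : K) = exp (-1) from ht, ← exp_nsmul, exp_le_exp] at h3
    simp at h3
    omega
  have hsurj : ∀ (n : ℕ) (x : P.O), ∃ q : κ[X], ψ n q = Ideal.Quotient.mk (mpow P n) x := fun n => by
    suffices ∀ l : ℕ, ∀ x : P.O, ∃ (q : κ[X]) (y : P.O),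
        Ideal.Quotient.mk (mpow P n) x = ψ n q + Ideal.Quotient.mk (mpow P n) (t ^ l * y) by
      intro x
      obtain ⟨q, y, hy⟩ := this n x
      refine ⟨q, ?_⟩
      rw [hy, show Ideal.Quotient.mk (mpow P n) (t ^ n * y) = 0 from Ideal.Quotient.eq_zero_iff_mem.2 (by
        rw [mem_mpow, MulMemClass.coe_mul, map_mul, SubmonoidClass.coe_pow, map_pow, show P.1 (t : K) = exp (-1) from ht,
          ← exp_nsmul]
        exact (mul_le_of_le_one_right' y.2).trans_eq (by simp)), add_zero]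
    intro l
    induction l with
    | zero => exact fun x => ⟨0, x, by simp⟩
    | succ l ih =>
      intro x
      rcases Nat.eq_zero_or_pos n with hn0 | hn0
      · subst hn0
        exact ⟨0, 0, by simpa using Ideal.Quotient.eq_zero_iff_mem.2 (show x ∈ mpow P 0 by rw [mem_mpow]; simp; exact x.2)⟩
      obtain ⟨q, y, hy⟩ := ih x
      obtain ⟨c, hc⟩ := Ideal.Quotient.mk_surjective (σ n (IsLocalRing.residue P.O y))
      have hcy : P.1 ((y : K) - c) ≤ exp (-1) := by
        rw [← lt_one_iff_le, ← AddSubgroupClass.coe_sub, ← residue_lt_iff, map_sub, hconst n _ c (by omega) hc.symm, sub_self]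
      let y' : P.O := ⟨((y : K) - c) / t₀, by
        show P.1 _ ≤ 1
        rw [map_div₀, ht, div_le_one₀ exp_pos]; exact hcy⟩
      refine ⟨q + C (IsLocalRing.residue P.O y) * X ^ l, y', ?_⟩
      have hyy : y = c + t * y' := Subtype.ext (by
        show (y : K) = c + t₀ * (((y : K) - c) / t₀)
        rw [mul_div_cancel₀ _ ht0]; ring)
      rw [hy, hyy, mul_add, map_add, map_mul, map_pow, hc, pow_succ, mul_assoc, map_add]
      rw [show ψ n (C (IsLocalRing.residue P.O (c + t * y')) * X ^ l) =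
        Ideal.Quotient.mk (mpow P n) t ^ l * σ n (IsLocalRing.residue P.O (c + t * y')) by simp [ψ, mul_comm], ← hyy]
      ring
  choose q hq using hsurj
  let Φ : P.O → PowerSeries κ := fun x => PowerSeries.mk fun i => (q (i + 1) x).coeff i
  have hΦ : ∀ (n : ℕ) (x : P.O) (p : κ[X]), ψ n p = Ideal.Quotient.mk (mpow P n) x →
      ∀ i < n, PowerSeries.coeff i (Φ x) = p.coeff i := fun n x p hp i hi => by
    rw [PowerSeries.coeff_mk, ← sub_eq_zero, ← coeff_sub]
    refine hker (i + 1) _ ?_ i (Nat.lt_succ_self i)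
    rw [map_sub, hq, ← hcompat (show i + 1 ≤ n by omega) p, hp, Ideal.Quotient.factor_mk, sub_self]
  let Φh : P.O →+* PowerSeries κ :=
    { toFun := Φ
      map_one' := PowerSeries.ext fun i => by
        rw [hΦ (i + 1) 1 1 (by rw [map_one, map_one]) i (Nat.lt_succ_self i), PowerSeries.coeff_one, coeff_one]
      map_zero' := PowerSeries.ext fun i => by
        rw [hΦ (i + 1) 0 0 (by rw [map_zero, map_zero]) i (Nat.lt_succ_self i), coeff_zero, map_zero]
      map_add' := fun x y => PowerSeries.ext fun i => by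
        rw [hΦ (i + 1) (x + y) (q (i + 1) x + q (i + 1) y) (by rw [map_add, hq, hq, map_add]) i (Nat.lt_succ_self i),
          coeff_add, map_add, PowerSeries.coeff_mk, PowerSeries.coeff_mk]
      map_mul' := fun x y => PowerSeries.ext fun i => by
        rw [hΦ (i + 1) (x * y) (q (i + 1) x * q (i + 1) y) (by rw [map_mul, hq, hq, map_mul]) i (Nat.lt_succ_self i),
          coeff_mul, PowerSeries.coeff_mul]
        refine Finset.sum_congr rfl fun ab hab => ?_
        rw [Finset.HasAntidiagonal.mem_antidiagonal] at hab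
        rw [hΦ (i + 1) x _ (hq _ _) ab.1 (by omega), hΦ (i + 1) y _ (hq _ _) ab.2 (by omega)] }
  have hΦt : Φh t = PowerSeries.X := PowerSeries.ext fun i => by
    show PowerSeries.coeff i (Φ t) = _
    rw [hΦ (i + 1) t X (by simp [ψ]) i (Nat.lt_succ_self i), coeff_X, PowerSeries.coeff_X]
    simp only [eq_comm]
  have hΦc : ∀ c : k, Φh (algebraMap k P.O c) = PowerSeries.C (algebraMap k κ c) := fun c => PowerSeries.ext fun i => by
    show PowerSeries.coeff i (Φ _) = _
    rw [hΦ (i + 1) _ (C (algebraMap k κ c)) (by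
      simp only [ψ, coe_eval₂RingHom, eval₂_C]; exact ((σ (i + 1)).commutes c).trans rfl) i (Nat.lt_succ_self i), coeff_C,
      PowerSeries.coeff_C]
  have hΦ0 : ∀ x : P.O, PowerSeries.coeff 0 (Φh x) = IsLocalRing.residue P.O x := fun x => by
    show PowerSeries.coeff 0 (Φ x) = _
    rw [hΦ 1 x (C (IsLocalRing.residue P.O x)) ?_ 0 one_pos, coeff_C_zero]
    obtain ⟨c, hc⟩ := Ideal.Quotient.mk_surjective (σ 1 (IsLocalRing.residue P.O x))
    simp only [ψ, coe_eval₂RingHom, eval₂_C]
    show σ 1 (IsLocalRing.residue P.O x) = _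
    rw [← hc, hmkeq, Nat.cast_one, ← lt_one_iff_le, ← AddSubgroupClass.coe_sub, ← residue_lt_iff, map_sub,
      hconst 1 _ c le_rfl hc.symm, sub_self]
  have hunitv : ∀ x : P.O, P.1 (x : K) = 1 → Valued.v ((Φh x : PowerSeries κ) : LaurentSeries κ) = 1 := fun x hx => by
    refine le_antisymm ?_ (not_lt.1 fun hlt => ?_)
    · rw [← exp_zero, ← neg_zero, LaurentSeries.valuation_le_iff_coeff_lt_eq_zero]
      intro m hm
      rw [PowerSeries.coeff_coe, if_pos hm]
    · rw [lt_one_iff_le, LaurentSeries.valuation_le_iff_coeff_lt_eq_zero] at hlt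
      have h1 := hlt 0 (by norm_num)
      rw [PowerSeries.coeff_coe, if_neg (lt_irrefl _), Int.natAbs_zero, hΦ0, residue_lt_iff, hx] at h1
      exact lt_irrefl _ h1
  have hinj : Function.Injective ((algebraMap (PowerSeries κ) (LaurentSeries κ)).comp Φh) := by
    rw [injective_iff_map_eq_zero]
    intro x hx
    by_contra hx0
    have hxK : (x : K) ≠ 0 := fun h => hx0 (Subtype.ext h)
    obtain ⟨m, hm⟩ : ∃ m : ℕ, P.ord (x : K) = m := ⟨(P.ord (x : K)).toNat, by
      have := (v_le_one_iff P hxK).1 x.2; omega⟩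
    let u : P.O := ⟨(x : K) / t₀ ^ m, by
      show P.1 _ ≤ 1
      rw [map_div₀, map_pow, ht, v_eq_exp P hxK, hm, ← exp_nsmul]; simp⟩
    have hu : P.1 (u : K) = 1 := by
      show P.1 ((x : K) / t₀ ^ m) = 1
      rw [map_div₀, map_pow, ht, v_eq_exp P hxK, hm, ← exp_nsmul]; simp
    have hxu : x = t ^ m * u := Subtype.ext (by
      show (x : K) = t₀ ^ m * ((x : K) / t₀ ^ m)
      rw [mul_div_cancel₀ _ (pow_ne_zero m ht0)])
    rw [RingHom.comp_apply, hxu, map_mul, map_pow, hΦt, map_mul, map_pow, mul_eq_zero] at hx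
    rcases hx with hx | hx
    · exact pow_ne_zero m (fun h0 => PowerSeries.X_ne_zero ((map_eq_zero_iff _ (IsFractionRing.injective (PowerSeries κ) (LaurentSeries κ))).1 h0)) hx
    · have := hunitv u hu
      rw [show ((Φh u : PowerSeries κ) : LaurentSeries κ) = algebraMap (PowerSeries κ) (LaurentSeries κ) (Φh u) from rfl, hx,
        map_zero] at this
      exact zero_ne_one this
  let φr : K →+* LaurentSeries κ := IsFractionRing.lift (A := P.O) hinj
  have hφO : ∀ x : P.O, φr (x : K) = ((Φh x : PowerSeries κ) : LaurentSeries κ) := fun x =>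
    IsFractionRing.lift_algebraMap hinj x
  let φ : K →ₐ[k] LaurentSeries κ :=
    { φr with
      commutes' := fun c => by
        show φr ((algebraMap k P.O c : P.O) : K) = _
        rw [hφO, hΦc, Laurent.algebraMap_eq, HahnSeries.ofPowerSeries_C, HahnSeries.C_apply] }
  have hvt : Valued.v (φr t₀) = exp (-1) := by
    rw [show t₀ = (t : K) from rfl, hφO, hΦt, PowerSeries.coe_X, LaurentSeries.valuation_single_zpow]
  have hval : ∀ x : K, Valued.v (φr x) = P.1 x := fun x => by
    rcases eq_or_ne x 0 with rfl | hx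
    · simp
    obtain ⟨z, hz⟩ : ∃ z, P.ord x = z := ⟨_, rfl⟩
    have hu : P.1 (x / t₀ ^ z) = 1 := by
      rw [map_div₀, map_zpow₀, ht, v_eq_exp P hx, hz, ← exp_zsmul]; simp
    have h1 := hunitv ⟨x / t₀ ^ z, hu.le⟩ hu
    rw [← hφO] at h1
    calc Valued.v (φr x) = Valued.v (φr (x / t₀ ^ z)) * Valued.v (φr t₀) ^ z := by
          rw [← map_zpow₀, ← map_zpow₀ φr, ← map_mul, ← map_mul, div_mul_cancel₀ _ (zpow_ne_zero _ ht0)]
      _ = _ := by rw [h1, one_mul, hvt, v_eq_exp P hx, hz, ← exp_zsmul]; simp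
  refine ⟨φ, hval, fun α => ?_, t₀, ht⟩
  obtain ⟨x, rfl⟩ := IsLocalRing.residue_surjective α
  refine ⟨(x : K), x.2, ?_⟩
  show (φr (x : K)).coeff 0 = _
  rw [hφO, PowerSeries.coeff_coe, if_neg (lt_irrefl _), Int.natAbs_zero, hΦ0]

end Groth.Agent.FunFldLib.Gal
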