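import Groth.Agent.FunFldLib.Gal.Structure
import Groth.Agent.FunFldLib.Diff.Series

/-! Hilbert's formula for the different exponent. -/

set_option autoImplicit false

open WithZero Polynomial
open LocRes (IsExpansionAt)
open scoped Pointwise

namespace Groth.Agent.FunFldLib.Gal

open FunFld Groth.Agent.FunFldLib

variable {k K K' : Type*} [Field k] [Field K] [Field K'] [Algebra k K] [Algebra K K'] [Algebra k K']
  [IsScalarTower k K K'] {F' : Type*} [Field F'] [Algebra k F'] {Q : Place k K'}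
  {ψ : K' →ₐ[k] LaurentSeries F'}

omit [IsScalarTower k K K'] [Algebra K K'] [Algebra k K] in
theorem residue_separable (hψ : IsExpansionAt Q.1 ψ) [Algebra.IsSeparable k F'] :
    Algebra.IsSeparable k (IsLocalRing.ResidueField Q.O) := by
  have hlow : ∀ x : Q.O, ∀ m < (0 : ℤ), (ψ (x : K')).coeff m = 0 := fun x =>
    (LaurentSeries.valuation_le_iff_coeff_lt_eq_zero (K := F') (D := 0)).1 (by rw [hψ.1, neg_zero, exp_zero]; exact x.2)
  let c : Q.O →ₐ[k] F' :=
    { toFun := fun x => (ψ (x : K')).coeff 0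
      map_one' := by simp
      map_zero' := by simp
      map_add' := fun x y => by simp
      map_mul' := fun x y => by
        rw [MulMemClass.coe_mul, map_mul]
        rw [show ψ (x : K') = HahnSeries.single 0 ((ψ (x : K')).coeff 0) +
            (ψ (x : K') - HahnSeries.single 0 ((ψ (x : K')).coeff 0)) by ring, add_mul, HahnSeries.coeff_add,
          HahnSeries.coeff_single_mul, sub_zero,
          Laurent.coeff_mul_low (A := 1) (fun i hi => by
            rw [HahnSeries.coeff_sub, HahnSeries.coeff_single]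
            rcases eq_or_ne i 0 with rfl | h
            · rw [if_pos rfl, sub_self]
            · rw [if_neg h, hlow x i (by omega), sub_zero]) (hlow y) (show (0 : ℤ) < 1 + 0 by norm_num), add_zero]
        simp
      commutes' := fun c => by
        show (ψ (algebraMap k K' c)).coeff 0 = _
        rw [LocRes.map_algebraMap]; simp }
  refine ⟨fun r => ?_⟩
  obtain ⟨x, rfl⟩ := IsLocalRing.residue_surjective r
  have hint : IsIntegral k (c x) := (Algebra.IsSeparable.isSeparable k (c x)).isIntegral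
  refine (Algebra.IsSeparable.isSeparable k (c x)).of_dvd (minpoly.dvd k _ ?_)
  rw [aeval_def, show eval₂ (algebraMap k (IsLocalRing.ResidueField Q.O)) (IsLocalRing.residue Q.O x) (minpoly k (c x)) =
    IsLocalRing.residue Q.O (aeval x (minpoly k (c x))) by rw [aeval_def, hom_eval₂]; rfl, residue_lt_iff, lt_one_iff_le,
    ← hψ.1, LaurentSeries.valuation_le_iff_coeff_lt_eq_zero]
  intro m hm
  rcases eq_or_ne m 0 with rfl | hne
  · show c (aeval x (minpoly k (c x))) = 0
    rw [← aeval_algHom_apply, minpoly.aeval]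
  · exact hlow _ m (by omega)

theorem prod_exp {ι : Type*} (S : Finset ι) (f : ι → ℤ) :
    ∏ i ∈ S, (exp (f i) : WithZero (Multiplicative ℤ)) = exp (∑ i ∈ S, f i) := by
  classical
  induction S using Finset.induction with
  | empty => simp
  | insert a S ha ih => rw [Finset.prod_insert ha, Finset.sum_insert ha, ih, exp_add]

theorem D_aeval (ψ : K' →ₐ[k] LaurentSeries F') (a : K') (h : k[X]) :
    LocRes.D F' (ψ (aeval a h)) = ψ (aeval a (derivative h)) * LocRes.D F' (ψ a) := by
  let _ := ψ.toRingHom.toAlgebra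
  have := LocRes.isScalarTower_exp ψ
  exact (LocRes.dExp ψ).map_aeval h a

variable [FiniteDimensional K K'] [IsGalois K K']

/-- derivatives of elements fixed by inertia -/
theorem D_fixed (hK : IsFF0 k K) (hψ : IsExpansionAt Q.1 ψ) [Algebra.IsSeparable k (IsLocalRing.ResidueField Q.O)]
    {P : Place k K} {e : ℕ} (he : IsOverWith Q P e) {t : K} (ht : P.1 t = exp (-1)) :
    (∀ n : ℕ, ∀ x : K', x ∈ IntermediateField.fixedField (ram (K := K) Q 1) → Q.1 x ≤ 1 →
      Valued.v (LocRes.D F' (ψ x)) ≤ max (Valued.v (LocRes.D F' (ψ (algebraMap K K' t)))) (exp (-(n : ℤ)))) := by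
  set K₁ := IntermediateField.fixedField (ram (K := K) Q 1)
  obtain ⟨Q₁, f, -, hf⟩ := exists_over (K := K₁) (ff0_ext hK) Q
  have hK₁ : IsFF0 k K₁ := ff0_ext hK
  have hef : f = e := by
    have h := ram_over_intermediate hK K₁ hf
    rw [show K₁.fixingSubgroup = ram (K := K) Q 1 from IntermediateField.fixingSubgroup_fixedField _, inf_idem,
      card_ram_one, card_inertia hK he] at h
    exact h
  subst hef
  have hsep : Algebra.IsSeparable k (IsLocalRing.ResidueField Q₁.O) := by
    have hext : Q₁.1.HasExtension Q.1 :=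
      ⟨Valuation.isEquiv_iff_val_le_one.2 fun {x} => (over_le_iff hf x).symm⟩
    exact Algebra.IsSeparable.of_algHom k (IsLocalRing.ResidueField Q.O)
      ({ algebraMap (IsLocalRing.ResidueField Q₁.O) (IsLocalRing.ResidueField Q.O) with
        commutes' := fun _ => rfl } : IsLocalRing.ResidueField Q₁.O →ₐ[k] IsLocalRing.ResidueField Q.O)
  set τ := Valued.v (LocRes.D F' (ψ (algebraMap K K' t)))
  intro n
  induction n with
  | zero => exact fun x _ hx => le_max_of_le_right (by simpa using Diff.D_le_one (by rwa [hψ.1]))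
  | succ n ih =>
    intro x hx hx1
    have hx₁ : Q₁.1 (⟨x, hx⟩ : K₁) ≤ 1 := (over_le_iff hf (⟨x, hx⟩ : K₁)).1 hx1
    obtain ⟨a, ha, h, hle, hu⟩ := exists_teich hK₁ (⟨⟨x, hx⟩, hx₁⟩ : Q₁.O) (n + 2)
    have hmap : ∀ p : k[X], aeval (((a : K₁) : K')) p = algebraMap K₁ K' ((aeval a p : Q₁.O) : K₁) := fun p => by
      rw [show ((a : K₁) : K') = IsScalarTower.toAlgHom k K₁ K' (a : K₁) from rfl, aeval_algHom_apply]
      refine congrArg (algebraMap K₁ K') ?_
      rw [aeval_def, aeval_def, show ((eval₂ (algebraMap k Q₁.O) a p : Q₁.O) : K₁) = Q₁.O.subtype (eval₂ (algebraMap k Q₁.O) a p) from rfl,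
        hom_eval₂]
      rfl
    have haK : Q.1 (aeval ((a : K₁) : K') h) ≤ exp (-((n : ℤ) + 2)) := by
      rw [hmap, hf]
      refine (pow_le_pow_left₀ zero_le hle f).trans ?_
      rw [← exp_nsmul, exp_le_exp, nsmul_eq_mul]
      have : (1 : ℤ) ≤ f := by exact_mod_cast over_pos hf
      push_cast; nlinarith
    have haD : Valued.v (LocRes.D F' (ψ ((a : K₁) : K'))) ≤ exp (-((n + 1 : ℕ) : ℤ)) := by
      have h1 := (Diff.D_le_of_le (e := (n : ℤ) + 2) ((hψ.1 _).trans_le haK)).1
      rw [D_aeval, map_mul, hψ.1, hmap, hf, v_unit hu, one_pow, one_mul] at h1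
      exact h1.trans (exp_le_exp.2 (by push_cast; omega))
    have hxa : Q.1 (x - ((a : K₁) : K')) ≤ exp (-(f : ℤ)) := by
      have hlt : Q₁.1 ((⟨x, hx⟩ : K₁) - (a : K₁)) ≤ exp (-1) := by
        rw [← sub_eq_zero, ← map_sub, residue_lt_iff, lt_one_iff_le, AddSubgroupClass.coe_sub, Valuation.map_sub_swap] at ha
        exact ha
      have h2 := hf ((⟨x, hx⟩ : K₁) - (a : K₁))
      refine h2.trans_le ((pow_le_pow_left₀ zero_le hlt f).trans ?_)
      rw [← exp_nsmul]; simp
    have ht0 : algebraMap K K' t ≠ 0 := (_root_.map_ne_zero _).2 fun h0 => by rw [h0, map_zero] at ht; exact exp_ne_zero ht.symm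
    set y := (x - ((a : K₁) : K')) / algebraMap K K' t
    have htv : Q.1 (algebraMap K K' t) = exp (-(f : ℤ)) := by rw [he, ht, ← exp_nsmul]; simp
    have hy : Q.1 y ≤ 1 := by rw [map_div₀, htv, div_le_one₀ exp_pos]; exact hxa
    have hymem : y ∈ K₁ := div_mem (sub_mem hx (a : K₁).2) (K₁.algebraMap_mem t)
    rw [show x = ((a : K₁) : K') + algebraMap K K' t * y by rw [mul_div_cancel₀ _ ht0]; ring, map_add, map_mul, map_add,
      Derivation.leibniz, smul_eq_mul, smul_eq_mul]
    refine (Valuation.map_add _ _ _).trans (max_le (le_max_of_le_right haD) ((Valuation.map_add _ _ _).trans (max_le ?_ ?_)))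
    · rw [map_mul, hψ.1, htv]
      refine (mul_le_mul_right (ih y hymem hy) _).trans ?_
      have hf1 : (1 : ℤ) ≤ f := by exact_mod_cast over_pos hf
      rw [mul_max, ← exp_add]
      refine max_le_max (mul_le_of_le_one_left zero_le ((exp_le_exp.2 (by omega)).trans_eq exp_zero)) (exp_le_exp.2 ?_)
      push_cast; omega
    · rw [map_mul, hψ.1]
      exact le_max_of_le_left (mul_le_of_le_one_left zero_le hy)

omit [FiniteDimensional K K'] [IsGalois K K'] in
theorem eq_one_of_fix (hK : IsFF0 k K') [Algebra.IsSeparable k (IsLocalRing.ResidueField Q.O)] {σ : K' ≃ₐ[K] K'}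
    (hσ : σ ∈ ram Q 1) {s : K'} (hs : Q.1 s = exp (-1)) (h : σ s = s) : σ = 1 := by
  have hall : ∀ j : ℕ, σ ∈ ram Q j := fun j => (mem_ram_iff_parameter hK hσ hs).2 (by simp [h])
  refine AlgEquiv.ext fun x => ?_
  suffices ∀ y : K', Q.1 y ≤ 1 → σ y = y by
    by_cases hx : Q.1 x ≤ 1
    · exact this x hx
    · have := this x⁻¹ (by rw [map_inv₀]; exact inv_le_one_of_one_le₀ (not_le.1 hx).le)
      rwa [map_inv₀, inv_inj] at this
  intro y hy
  by_contra hne
  have h0 := v_ne_zero Q (sub_ne_zero.2 hne)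
  have h1 := hall ((-log (Q.1 (σ y - y))).toNat + 1) y hy
  conv_lhs at h1 => rw [← exp_log h0]
  rw [exp_le_exp] at h1
  omega

theorem hilbert (hK : IsFF0 k K) (hs : Tate.Sep k K) {F : Type*} [Field F] [Algebra k F] {φ : K →ₐ[k] LaurentSeries F}
    {P : Place k K} {e : ℕ} (he : IsOverWith Q P e) (hφ : IsExpansionAt P.1 φ) (hψ : IsExpansionAt Q.1 ψ)
    {x : K} (hx : LocRes.vDiff φ 1 x ≠ 0) (hx' : LocRes.vDiff ψ 1 (algebraMap K K' x) ≠ 0) :
    (Function.support fun i : ℕ => (Nat.card (ram (K := K) Q i) : ℤ) - 1).Finite ∧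
    LocRes.diffExp φ ψ e x = ∑ᶠ i : ℕ, if 1 ≤ i then (Nat.card (ram (K := K) Q i) : ℤ) - 1 else 0 := by
  classical
  have hK' : IsFF0 k K' := ff0_ext hK
  have hfin : FiniteDimensional k F' := Tate.finite_coeff hK' hψ
  obtain ⟨s₀, hs₀⟩ := Tate.sep_ext (k' := k) (K' := K') hs
  have : Algebra.IsSeparable k F' := isSeparable_coeff (s := s₀) hψ
  have hsepQ := residue_separable hψ
  obtain ⟨t, ht⟩ := hφ.2.2
  obtain ⟨s, -, hsv⟩ := exists_exp Q (-1)
  have hτ := Diff.diffExp_eq hs hφ hψ he hx hx' ht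
  set d := LocRes.diffExp φ ψ e x
  set I := (Finset.univ : Finset (K' ≃ₐ[K] K')).filter (fun σ => σ ∈ ram Q 1) with hI
  have hmemI : ∀ σ, σ ∈ I ↔ σ ∈ ram Q 1 := fun σ => by simp [hI]
  set g : K'[X] := ∏ σ ∈ I, (X - C (σ s)) with hg
  have hfix : ∀ i, g.coeff i ∈ IntermediateField.fixedField (ram (K := K) Q 1) := fun i => by
    rw [IntermediateField.mem_fixedField_iff]
    intro ρ hρ
    have h1 : g.map (ρ : K' →+* K') = g := by
      rw [hg, Polynomial.map_prod]
      refine Finset.prod_nbij' (fun σ => ρ * σ) (fun σ => ρ⁻¹ * σ) (fun σ hσ => ?_) (fun σ hσ => ?_)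
        (fun σ _ => inv_mul_cancel_left ρ σ) (fun σ _ => mul_inv_cancel_left ρ σ) fun σ _ => by simp
      · exact (hmemI _).2 (mul_mem hρ ((hmemI _).1 hσ))
      · exact (hmemI _).2 (mul_mem (inv_mem hρ) ((hmemI _).1 hσ))
    conv_rhs => rw [← h1, coeff_map]
    rfl
  have hσs : ∀ σ ∈ I, Q.1 (σ s) = exp (-1) := fun σ hσ => by rw [v_map (stab_of_le Q ((hmemI σ).1 hσ)), hsv]
  have hint : ∀ i, Q.1 (g.coeff i) ≤ 1 := by
    have h : ∀ S : Finset (K' ≃ₐ[K] K'), S ⊆ I → ∀ i, Q.1 ((∏ σ ∈ S, (X - C (σ s))).coeff i) ≤ 1 := fun S => by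
      induction S using Finset.induction with
      | empty => intro _ i; rw [Finset.prod_empty, coeff_one]; split <;> simp
      | insert a S ha ih =>
        intro hS i
        rw [Finset.prod_insert ha, sub_mul, coeff_sub, coeff_C_mul]
        have hS' := Finset.Subset.trans (Finset.subset_insert a S) hS
        refine (Valuation.map_sub _ _ _).trans (max_le ?_ ?_)
        · rcases i with _ | j
          · simp
          · rw [coeff_X_mul]; exact ih hS' j
        · rw [map_mul, hσs a (hS (Finset.mem_insert_self a S))]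
          exact (mul_le_of_le_one_right' (ih hS' i)).trans ((exp_le_exp.2 (by omega)).trans_eq exp_zero)
    exact h I subset_rfl
  have hcardI : I.card = e := by
    rw [← Nat.card_eq_finsetCard, ← card_inertia hK he, ← card_ram_one]
    exact Nat.card_congr (Equiv.subtypeEquivRight hmemI)
  have h0 : Q.1 (g.coeff 0) = exp (-(e : ℤ)) := by
    rw [coeff_zero_eq_eval_zero, hg, eval_prod, map_prod, Finset.prod_congr rfl fun σ hσ => by
      rw [eval_sub, eval_X, eval_C, zero_sub, Valuation.map_neg, hσs σ hσ], Finset.prod_const, hcardI, ← exp_nsmul]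
    simp
  have hDle : ∀ y ∈ IntermediateField.fixedField (ram (K := K) Q 1), Q.1 y ≤ 1 →
      Valued.v (LocRes.D F' (ψ y)) ≤ exp (-d) := fun y hy hy1 =>
    (D_fixed hK hψ he ht d.toNat y hy hy1).trans (max_le hτ.le (exp_le_exp.2 (by omega)))
  have hte : Q.1 (algebraMap K K' t) = exp (-(e : ℤ)) := by rw [he, ht, ← exp_nsmul]; simp
  have hD0 : Valued.v (LocRes.D F' (ψ (g.coeff 0))) = exp (-d) := by
    have ht0 : algebraMap K K' t ≠ 0 := fun h => by rw [h, map_zero] at hte; exact exp_ne_zero hte.symm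
    obtain ⟨u, hu⟩ : ∃ u, u = g.coeff 0 / algebraMap K K' t := ⟨_, rfl⟩
    have hu1 : Q.1 u = 1 := by rw [hu, map_div₀, h0, hte, div_self exp_ne_zero]
    have humem : u ∈ IntermediateField.fixedField (ram (K := K) Q 1) := hu ▸ div_mem (hfix 0) (IntermediateField.algebraMap_mem _ t)
    rw [show g.coeff 0 = algebraMap K K' t * u by rw [hu, mul_div_cancel₀ _ ht0], map_mul, Derivation.leibniz, smul_eq_mul,
      smul_eq_mul]
    have hA : Valued.v (ψ u * LocRes.D F' (ψ (algebraMap K K' t))) = exp (-d) := by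
      rw [map_mul, hψ.1, hu1, one_mul, hτ]
    rw [Valuation.map_add_eq_of_lt_right, hA]
    rw [hA, map_mul, hψ.1, hte]
    refine lt_of_le_of_lt (mul_le_mul_right (hDle u humem hu1.le) _) ?_
    rw [← exp_add, exp_lt_exp]
    have : 0 < (e : ℤ) := by exact_mod_cast over_pos he
    omega
  have hderiv : Q.1 (∏ σ ∈ I.erase 1, (s - σ s)) = exp (-d) := by
    have h1I : (1 : K' ≃ₐ[K] K') ∈ I := (hmemI 1).2 (one_mem _)
    have hev : eval s (derivative g) = ∏ σ ∈ I.erase 1, (s - σ s) := by
      rw [hg, ← Finset.mul_prod_erase _ _ h1I, derivative_mul, eval_add, eval_mul, eval_mul, eval_prod]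
      simp
    rw [← hev]
    set N := g.natDegree + 1
    set S := ψ s
    set a : ℕ → LaurentSeries F' := fun i => ψ (g.coeff i)
    have hroot : g.eval s = 0 := by
      rw [hg, eval_prod]
      exact Finset.prod_eq_zero h1I (by simp)
    have hzero : ∑ i ∈ Finset.range N, a i * S ^ i = 0 := by
      have := congrArg ψ hroot
      simp only [eval_eq_sum_range, map_sum, map_mul, map_pow, map_zero] at this
      exact this
    have hder : ψ (eval s (derivative g)) = ∑ i ∈ Finset.range N, a i * ((i : LaurentSeries F') * S ^ (i - 1)) := by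
      rw [derivative_apply, sum_over_range _ (fun n => by simp), eval_finsetSum, map_sum]
      refine Finset.sum_congr rfl fun i _ => ?_
      simp [a, S, mul_assoc]
    have hD := congrArg (LocRes.D F') hzero
    simp only [map_sum, Derivation.leibniz, smul_eq_mul, Derivation.leibniz_pow, map_zero, nsmul_eq_mul] at hD
    rw [Finset.sum_add_distrib] at hD
    have h1 : ψ (eval s (derivative g)) * LocRes.D F' S = -(∑ i ∈ Finset.range N, S ^ i * LocRes.D F' (a i)) := by
      rw [hder, Finset.sum_mul, eq_neg_iff_add_eq_zero, ← hD]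
      congr 1
      exact Finset.sum_congr rfl fun i _ => by ring
    have hsum : Valued.v (∑ i ∈ Finset.range N, S ^ i * LocRes.D F' (a i)) = exp (-d) := by
      have h00 : Valued.v (S ^ 0 * LocRes.D F' (a 0)) = exp (-d) := by rw [pow_zero, one_mul]; exact hD0
      rw [← h00]
      refine Valuation.map_sum_eq_of_lt (Valued.v (R := LaurentSeries F')) (Finset.mem_range.2 (Nat.succ_pos _)) fun i hi => ?_
      rw [Finset.mem_sdiff, Finset.mem_singleton] at hi
      rw [h00, map_mul, map_pow, hψ.1, hsv]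
      refine lt_of_le_of_lt (mul_le_mul_right (hDle _ (hfix i) (hint i)) _) ?_
      rw [← exp_nsmul, ← exp_add, exp_lt_exp, nsmul_eq_mul]
      omega
    have h2 := congrArg (Valued.v (R := LaurentSeries F')) h1
    rw [map_mul, hψ.1, Diff.D_eq_one (by rw [hψ.1, hsv]), mul_one, Valuation.map_neg, hsum] at h2
    exact h2
  -- the counting
  obtain ⟨v, hv⟩ : ∃ v : (K' ≃ₐ[K] K') → ℕ, ∀ σ ∈ I.erase 1, Q.1 (σ s - s) = exp (-(v σ : ℤ)) := by
    refine ⟨fun σ => (-log (Q.1 (σ s - s))).toNat, fun σ hσ => ?_⟩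
    obtain ⟨hne, hσ'⟩ := Finset.mem_erase.1 hσ
    have hne' : σ s - s ≠ 0 := sub_ne_zero.2 fun h => hne (eq_one_of_fix hK' ((hmemI σ).1 hσ') hsv h)
    have h1 := (hmemI σ).1 hσ' s (hsv.le.trans ((exp_le_exp.2 (by omega)).trans_eq exp_zero))
    conv_lhs at h1 => rw [← exp_log (v_ne_zero Q hne')]
    rw [exp_le_exp] at h1
    conv_lhs => rw [← exp_log (v_ne_zero Q hne')]
    congr 1
    push_cast at h1 ⊢
    simp only [Int.toNat_of_nonneg (show 0 ≤ -log (Q.1 (σ s - s)) by omega)]
    omega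
  have hd : d = ∑ σ ∈ I.erase 1, (v σ : ℤ) := by
    rw [map_prod, Finset.prod_congr rfl fun σ hσ => by rw [Valuation.map_sub_swap, hv σ hσ], prod_exp, exp_inj,
      Finset.sum_neg_distrib, neg_inj] at hderiv
    exact hderiv.symm
  have hcount : ∀ i : ℕ, 1 ≤ i → (Nat.card (ram (K := K) Q i) : ℤ) - 1 = ((I.erase 1).filter (fun σ => i ≤ v σ)).card := fun i hi => by
    have h1 : insert 1 ((I.erase 1).filter (fun σ => i ≤ v σ)) = Finset.univ.filter (fun σ => σ ∈ ram (K := K) Q i) := by
      ext σ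
      rcases eq_or_ne σ 1 with rfl | hne
      · simp [one_mem]
      rw [Finset.mem_insert, Finset.mem_filter, Finset.mem_filter, Finset.mem_erase, hmemI]
      constructor
      · rintro (rfl | ⟨⟨-, hσ⟩, hiv⟩)
        · exact absurd rfl hne
        refine ⟨Finset.mem_univ _, (mem_ram_iff_parameter hK' hσ hsv).2 ?_⟩
        rw [hv σ (Finset.mem_erase.2 ⟨hne, (hmemI σ).2 hσ⟩), exp_le_exp]; omega
      · rintro ⟨-, hσ⟩
        have h1 := ram_anti Q hi hσ
        have h2 := hσ s (hsv.le.trans ((exp_le_exp.2 (by omega)).trans_eq exp_zero))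
        rw [hv σ (Finset.mem_erase.2 ⟨hne, (hmemI σ).2 h1⟩), exp_le_exp] at h2
        exact .inr ⟨⟨hne, h1⟩, by omega⟩
    have h2 := congrArg Finset.card h1
    rw [Finset.card_insert_of_notMem (by simp), ← Fintype.card_subtype, ← Nat.card_eq_fintype_card] at h2
    change _ = Nat.card (ram (K := K) Q i) at h2
    rw [← h2]; push_cast; ring
  set M := (I.erase 1).sup v + 1
  have hlarge : ∀ i, M ≤ i → (Nat.card (ram (K := K) Q i) : ℤ) - 1 = 0 := fun i hi => by
    rw [hcount i (by omega), Nat.cast_eq_zero, Finset.card_eq_zero, Finset.filter_eq_empty_iff]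
    intro σ hσ
    have := Finset.le_sup (f := v) hσ
    omega
  refine ⟨(Finset.range M).finite_toSet.subset fun i hi => ?_, ?_⟩
  · rw [Finset.mem_coe, Finset.mem_range]
    exact not_le.1 fun h => hi (hlarge i h)
  rw [finsum_eq_sum_of_support_subset _ (s := Finset.Ico 1 M) fun i hi => by
    rw [Function.mem_support, ne_eq, ite_eq_right_iff] at hi
    push Not at hi
    rw [Finset.mem_coe, Finset.mem_Ico]
    exact ⟨hi.1, not_le.1 fun h => hi.2 (hlarge i h)⟩, hd,
    Finset.sum_congr rfl fun i (hi : i ∈ Finset.Ico 1 M) => by rw [if_pos (Finset.mem_Ico.1 hi).1, hcount i (Finset.mem_Ico.1 hi).1]]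
  simp only [Finset.card_filter, Nat.cast_sum, Nat.cast_ite, Nat.cast_one, Nat.cast_zero]
  rw [Finset.sum_comm]
  refine Finset.sum_congr rfl fun σ hσ => ?_
  have := Finset.le_sup (f := v) hσ
  rw [Finset.sum_boole, show (Finset.Ico 1 M).filter (fun i => i ≤ v σ) = Finset.Icc 1 (v σ) by
    ext i; simp only [Finset.mem_filter, Finset.mem_Ico, Finset.mem_Icc]; omega, Nat.card_Icc]
  simp

end Groth.Agent.FunFldLib.Gal
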