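import Groth.Agent.FunFldLib.Ext
import Mathlib.FieldTheory.Separable
import Mathlib.RingTheory.LocalRing.ResidueField.Basic

/-! Approximate coefficient fields at separable places. -/

set_option autoImplicit false

open WithZero Polynomial

namespace Groth.Agent.FunFldLib.Gal

open FunFld Groth.Agent.FunFldLib

variable {k L : Type*} [Field k] [Field L] [Algebra k L] (Q : Place k L)

/-- `a` is an approximate constant to order `N` -/
def IsTeich (N : ℕ) (a : Q.O) : Prop :=
  ∃ h : k[X], Q.1 ((aeval a h : Q.O) : L) ≤ exp (-(N : ℤ)) ∧ IsUnit (aeval a (derivative h))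

variable {Q}

theorem residue_lt_iff (x : Q.O) : IsLocalRing.residue Q.O x = 0 ↔ Q.1 (x : L) < 1 := by
  rw [IsLocalRing.residue_eq_zero_iff, IsLocalRing.mem_maximalIdeal, mem_nonunits_iff]
  constructor
  · intro h
    refine lt_of_le_of_ne x.2 fun h1 => h (isUnit_iff_exists_inv.2 ⟨⟨(x : L)⁻¹, by
      show Q.1 (x : L)⁻¹ ≤ 1
      rw [map_inv₀, h1, inv_one]⟩, Subtype.ext (mul_inv_cancel₀ fun h0 => by
        rw [h0, map_zero] at h1; exact zero_ne_one h1)⟩)
  · intro h hu
    obtain ⟨y, hy⟩ := isUnit_iff_exists_inv.1 hu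
    have := congrArg (fun z : Q.O => Q.1 (z : L)) hy
    simp only [MulMemClass.coe_mul, map_mul, OneMemClass.coe_one, map_one] at this
    exact (mul_lt_one_of_lt_of_le h y.2).ne this

theorem v_unit {x : Q.O} (h : IsUnit x) : Q.1 (x : L) = 1 :=
  le_antisymm x.2 (not_lt.1 fun hlt => by
    have h0 := (residue_lt_iff x).2 hlt
    rw [IsLocalRing.residue_eq_zero_iff, IsLocalRing.mem_maximalIdeal, mem_nonunits_iff] at h0
    exact h0 h)

theorem exists_teich_minpoly (hK : IsFF0 k L) [Algebra.IsSeparable k (IsLocalRing.ResidueField Q.O)] (r : Q.O) (N : ℕ) :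
    ∃ a : Q.O, IsLocalRing.residue Q.O a = IsLocalRing.residue Q.O r ∧
      Q.1 ((aeval a (minpoly k (IsLocalRing.residue Q.O r)) : Q.O) : L) ≤ exp (-(N : ℤ)) ∧
      IsUnit (aeval a (derivative (minpoly k (IsLocalRing.residue Q.O r)))) := by
  have : FiniteDimensional k (IsLocalRing.ResidueField Q.O) := Module.finite_of_finrank_pos (deg_pos hK Q)
  set θ := IsLocalRing.residue Q.O r
  set h := minpoly k θ
  have hres : ∀ (a : Q.O) (p : k[X]), IsLocalRing.residue Q.O (aeval a p) = aeval (IsLocalRing.residue Q.O a) p :=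
    fun a p => by rw [aeval_def, hom_eval₂, aeval_def]; rfl
  have hu : ∀ a : Q.O, IsLocalRing.residue Q.O a = θ → IsUnit (aeval a (derivative h)) := fun a ha => by
    by_contra hn
    have h1 : IsLocalRing.residue Q.O (aeval a (derivative h)) = 0 := by
      rw [IsLocalRing.residue_eq_zero_iff, IsLocalRing.mem_maximalIdeal, mem_nonunits_iff]; exact hn
    rw [hres, ha] at h1
    exact (Algebra.IsSeparable.isSeparable k θ).aeval_derivative_ne_zero (minpoly.aeval _ _) h1
  suffices ∃ a : Q.O, IsLocalRing.residue Q.O a = θ ∧ Q.1 ((aeval a h : Q.O) : L) ≤ exp (-(N : ℤ)) by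
    obtain ⟨a, ha, hle⟩ := this
    exact ⟨a, ha, hle, hu a ha⟩
  induction N with
  | zero => exact ⟨r, rfl, (aeval r h).2.trans_eq (by simp)⟩
  | succ N ih =>
    obtain ⟨a, ha, hle⟩ := ih
    have hlt : Q.1 ((aeval a h : Q.O) : L) < 1 := by
      rw [← residue_lt_iff, hres, ha]; exact minpoly.aeval _ _
    obtain ⟨u, hu'⟩ := hu a ha
    set y : Q.O := -(↑u⁻¹ * aeval a h)
    obtain ⟨z, hz⟩ := binomExpansion (h.map (algebraMap k Q.O)) a y
    rw [derivative_map, eval_map_algebraMap, eval_map_algebraMap, eval_map_algebraMap, ← hu',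
      show (↑u : Q.O) * y = -aeval a h by simp [y], add_neg_cancel, zero_add] at hz
    have hyv : Q.1 (y : L) = Q.1 ((aeval a h : Q.O) : L) := by
      simp only [y, NegMemClass.coe_neg, MulMemClass.coe_mul, Valuation.map_neg, map_mul, v_unit u⁻¹.isUnit, one_mul]
    refine ⟨a + y, ?_, ?_⟩
    · rw [map_add, ha, (residue_lt_iff y).2 (hyv ▸ hlt), add_zero]
    · rw [hz, MulMemClass.coe_mul, map_mul, SubmonoidClass.coe_pow, map_pow, hyv]
      refine (mul_le_of_le_one_left zero_le z.2).trans ?_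
      rw [pow_two, show (-((N + 1 : ℕ) : ℤ)) = -(N : ℤ) + -1 by push_cast; ring, exp_add]
      exact mul_le_mul' hle ((lt_one_iff_le _).1 hlt)

theorem exists_teich (hK : IsFF0 k L) [Algebra.IsSeparable k (IsLocalRing.ResidueField Q.O)] (r : Q.O) (N : ℕ) :
    ∃ a : Q.O, IsLocalRing.residue Q.O a = IsLocalRing.residue Q.O r ∧ IsTeich Q N a :=
  let ⟨a, h₁, h₂, h₃⟩ := exists_teich_minpoly hK r N
  ⟨a, h₁, _, h₂, h₃⟩

/-- approximate constants are determined by their residue -/
theorem teich_unique {N : ℕ} {a b : Q.O} (h : k[X]) (ha : Q.1 ((aeval a h : Q.O) : L) ≤ exp (-(N : ℤ)))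
    (hb : Q.1 ((aeval b h : Q.O) : L) ≤ exp (-(N : ℤ))) (hu : IsUnit (aeval a (derivative h)))
    (hab : IsLocalRing.residue Q.O b = IsLocalRing.residue Q.O a) : Q.1 ((b : L) - a) ≤ exp (-(N : ℤ)) := by
  obtain ⟨z, hz⟩ := binomExpansion (h.map (algebraMap k Q.O)) a (b - a)
  rw [derivative_map, eval_map_algebraMap, eval_map_algebraMap, eval_map_algebraMap, add_sub_cancel, add_assoc,
    pow_two, ← mul_assoc, ← add_mul] at hz
  have hres : IsUnit (aeval a (derivative h) + z * (b - a)) := by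
    by_contra hn
    have h1 : IsLocalRing.residue Q.O (aeval a (derivative h) + z * (b - a)) = 0 := by
      rw [IsLocalRing.residue_eq_zero_iff, IsLocalRing.mem_maximalIdeal, mem_nonunits_iff]; exact hn
    rw [map_add, map_mul, map_sub, hab, sub_self, mul_zero, add_zero, IsLocalRing.residue_eq_zero_iff,
      IsLocalRing.mem_maximalIdeal, mem_nonunits_iff] at h1
    exact h1 hu
  have h2 : Q.1 (((aeval b h - aeval a h : Q.O)) : L) = Q.1 ((b : L) - a) := by
    rw [hz, add_sub_cancel_left, MulMemClass.coe_mul, map_mul, v_unit hres, one_mul, AddSubgroupClass.coe_sub]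
  rw [← h2, AddSubgroupClass.coe_sub]
  exact (Valuation.map_sub _ _ _).trans (max_le hb ha)

end Groth.Agent.FunFldLib.Gal
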