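import Groth.Agent.FunFldLib.Gal.Action
import Groth.Agent.FunFldLib.Gal.Teich
import Mathlib.RingTheory.Valuation.Extension
import Mathlib.FieldTheory.Normal.Basic
import Mathlib.FieldTheory.PrimitiveElement
import Mathlib.FieldTheory.Minpoly.IsIntegrallyClosed

/-! Inertia and ramification groups. -/

set_option autoImplicit false

open WithZero Polynomial
open scoped Pointwise

namespace Groth.Agent.FunFldLib.Gal

open FunFld Groth.Agent.FunFldLib

variable {k K K' : Type*} [Field k] [Field K] [Field K'] [Algebra k K] [Algebra K K'] [Algebra k K']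
  [IsScalarTower k K K']

theorem mem_decomp_of (Q : Place k K') {σ : K' ≃ₐ[K] K'} (h : ∀ x, Q.1 x ≤ 1 → Q.1 (σ x) ≤ 1) : σ • Q = Q := by
  have h1 : Q = σ⁻¹ • Q := ext_of_le _ _ fun x hx => by rw [inv_smul_apply]; exact h x hx
  conv_lhs => rw [h1]
  exact smul_inv_smul σ Q

theorem stab_of_le (Q : Place k K') {σ : K' ≃ₐ[K] K'} {i : ℕ}
    (hσ : ∀ x, Q.1 x ≤ 1 → Q.1 (σ x - x) ≤ exp (-(i : ℤ))) : σ • Q = Q :=
  mem_decomp_of Q fun x hx => by
    have h1 : Q.1 (σ x - x) ≤ 1 := (hσ x hx).trans ((exp_le_exp.2 (by omega)).trans_eq exp_zero)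
    calc Q.1 (σ x) = Q.1 ((σ x - x) + x) := by rw [sub_add_cancel]
      _ ≤ _ := (Valuation.map_add _ _ _).trans (max_le h1 hx)

theorem v_map {Q : Place k K'} {σ : K' ≃ₐ[K] K'} (h : σ • Q = Q) (x : K') : Q.1 (σ x) = Q.1 x := by
  rw [← inv_smul_apply, inv_smul_eq_iff.2 h.symm]

/-- the ramification groups in lower numbering -/
def ram (Q : Place k K') (i : ℕ) : Subgroup (K' ≃ₐ[K] K') where
  carrier := {σ | ∀ x : K', Q.1 x ≤ 1 → Q.1 (σ x - x) ≤ exp (-(i : ℤ))}
  one_mem' x _ := by simp
  mul_mem' {σ τ} hσ hτ x hx := by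
    rw [AlgEquiv.mul_apply, show σ (τ x) - x = (σ (τ x) - τ x) + (τ x - x) by ring]
    exact (Valuation.map_add _ _ _).trans (max_le (hσ _ (by rwa [v_map (stab_of_le Q hτ)])) (hτ x hx))
  inv_mem' {σ} hσ x hx := by
    have h := hσ (σ⁻¹ x) (by rw [← smul_apply, stab_of_le Q hσ]; exact hx)
    rw [show σ (σ⁻¹ x) = x from σ.apply_symm_apply x, Valuation.map_sub_swap] at h
    exact h

theorem mem_ram {Q : Place k K'} {i : ℕ} {σ : K' ≃ₐ[K] K'} :
    σ ∈ ram Q i ↔ ∀ x : K', Q.1 x ≤ 1 → Q.1 (σ x - x) ≤ exp (-(i : ℤ)) := Iff.rfl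

theorem ram_anti (Q : Place k K') {i j : ℕ} (h : i ≤ j) : ram (K := K) Q j ≤ ram Q i := fun _ hσ x hx =>
  (hσ x hx).trans (exp_le_exp.2 (by omega))

theorem inertia_eq (Q : Place k K') :
    (Q.O.inertiaSubgroup K).map (Q.O.decompositionSubgroup K).subtype = ram Q 1 := by
  ext σ
  rw [Subgroup.mem_map, mem_ram]
  constructor
  · rintro ⟨τ, hτ, rfl⟩ x hx
    rw [ValuationSubring.inertiaSubgroup, MonoidHom.mem_ker] at hτ
    have h := DFunLike.congr_fun hτ (IsLocalRing.residue Q.O ⟨x, hx⟩)
    change τ • IsLocalRing.residue Q.O ⟨x, hx⟩ = IsLocalRing.residue Q.O ⟨x, hx⟩ at h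
    rw [← IsLocalRing.ResidueField.residue_smul, ← sub_eq_zero, ← map_sub, residue_lt_iff, lt_one_iff_le] at h
    exact_mod_cast h
  · intro hσ
    refine ⟨⟨σ, (smul_eq_iff σ Q).1 (stab_of_le Q hσ)⟩, ?_, rfl⟩
    rw [ValuationSubring.inertiaSubgroup, MonoidHom.mem_ker]
    refine RingEquiv.ext fun r => ?_
    obtain ⟨x, rfl⟩ := IsLocalRing.residue_surjective r
    show (_ : Q.O.decompositionSubgroup K) • IsLocalRing.residue Q.O x = IsLocalRing.residue Q.O x
    rw [← IsLocalRing.ResidueField.residue_smul, ← sub_eq_zero, ← map_sub, residue_lt_iff, lt_one_iff_le]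
    exact_mod_cast hσ x x.2

theorem card_ram_one (Q : Place k K') : Nat.card (ram (K := K) Q 1) = Nat.card (Q.O.inertiaSubgroup K) := by
  rw [← inertia_eq]
  exact Nat.card_congr (Subgroup.equivMapOfInjective _ _ (Q.O.decompositionSubgroup K).subtype_injective).symm.toEquiv

theorem teich_fixed {Q : Place k K'} {σ : K' ≃ₐ[K] K'} (hσ : σ ∈ ram Q 1) {N : ℕ} {a : Q.O} (ha : IsTeich Q N a) :
    Q.1 (σ (a : K') - a) ≤ exp (-(N : ℤ)) := by
  obtain ⟨h, hle, hu⟩ := ha
  have hst := stab_of_le Q hσ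
  have hco : ∀ x : Q.O, ((aeval x h : Q.O) : K') = aeval (x : K') h := fun x => by
    rw [aeval_def, aeval_def, show ((eval₂ (algebraMap k Q.O) x h : Q.O) : K') = Q.O.subtype (eval₂ (algebraMap k Q.O) x h) from rfl,
      hom_eval₂]
    rfl
  let b : Q.O := ⟨σ a, by show Q.1 (σ a) ≤ 1; rw [v_map hst]; exact a.2⟩
  refine teich_unique h (b := b) hle ?_ hu ?_
  · rw [hco, show (b : K') = (σ.restrictScalars k) (a : K') from rfl, aeval_algEquiv, AlgHom.comp_apply, ← hco]
    exact (v_map hst _).trans_le hle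
  · rw [← sub_eq_zero, ← map_sub, residue_lt_iff, lt_one_iff_le]
    exact_mod_cast hσ a a.2

/-- ramification is detected by a local parameter -/
theorem mem_ram_iff_parameter (hK : IsFF0 k K') {Q : Place k K'} [Algebra.IsSeparable k (IsLocalRing.ResidueField Q.O)]
    {σ : K' ≃ₐ[K] K'} (hσ : σ ∈ ram Q 1) {t : K'} (ht : Q.1 t = exp (-1)) {j : ℕ} :
    σ ∈ ram Q j ↔ Q.1 (σ t - t) ≤ exp (-(j : ℤ)) := by
  refine ⟨fun h => h t (by rw [ht]; exact (exp_le_exp.2 (by omega)).trans_eq exp_zero), fun htj => ?_⟩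
  have hst := stab_of_le Q hσ
  have ht0 : t ≠ 0 := fun h => by rw [h, map_zero] at ht; exact exp_ne_zero ht.symm
  have key : ∀ n : ℕ, ∀ x : K', Q.1 x ≤ 1 → Q.1 (σ x - x) ≤ max (exp (-(j : ℤ))) (exp (-(n : ℤ))) := by
    intro n
    induction n with
    | zero =>
      intro x hx
      refine le_max_of_le_right ((Valuation.map_sub _ _ _).trans (max_le ?_ ?_))
      · rw [v_map hst]; simpa using hx
      · simpa using hx
    | succ n ih =>
      intro x hx
      obtain ⟨a, ha, hT⟩ := exists_teich hK ⟨x, hx⟩ j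
      have hxa : Q.1 (x - a) < 1 := by
        rw [← sub_eq_zero, ← map_sub, residue_lt_iff, AddSubgroupClass.coe_sub, Valuation.map_sub_swap] at ha
        exact ha
      set y := (x - a) / t
      have hy : Q.1 y ≤ 1 := by
        rw [map_div₀, ht, div_le_one₀ exp_pos]; exact (lt_one_iff_le _).1 hxa
      have hx' : σ x - x = (σ (a : K') - a) + (σ t * (σ y - y) + (σ t - t) * y) := by
        have : x = a + t * y := by rw [mul_div_cancel₀ _ ht0]; ring
        conv_lhs => rw [this]
        rw [map_add, map_mul]; ring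
      rw [hx']
      refine (Valuation.map_add _ _ _).trans (max_le (le_max_of_le_left (teich_fixed hσ hT))
        ((Valuation.map_add _ _ _).trans (max_le ?_ ?_)))
      · rw [map_mul, v_map hst, ht]
        refine (mul_le_mul_right (ih y hy) _).trans ?_
        rw [mul_max, ← exp_add, ← exp_add]
        exact max_le_max (exp_le_exp.2 (by omega)) (exp_le_exp.2 (by push_cast; omega))
      · rw [map_mul]
        exact le_max_of_le_left ((mul_le_of_le_one_right' hy).trans htj)
  exact fun x hx => by simpa using key j x hx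

variable [FiniteDimensional K K'] [IsGalois K K']

theorem card_inertia (hK : IsFF0 k K) {Q : Place k K'} {P : Place k K} {e : ℕ} (he : IsOverWith Q P e)
    [Algebra.IsSeparable k (IsLocalRing.ResidueField Q.O)] : Nat.card (Q.O.inertiaSubgroup K) = e := by
  classical
  have hext : P.1.HasExtension Q.1 :=
    ⟨Valuation.isEquiv_iff_val_le_one.2 fun {x} => (over_le_iff he x).symm⟩
  have hK' : IsFF0 k K' := ff0_ext hK
  set κ := IsLocalRing.ResidueField P.O
  set l := IsLocalRing.ResidueField Q.O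
  have htower : IsScalarTower k κ l := IsScalarTower.of_algebraMap_eq fun c =>
    congrArg (IsLocalRing.residue Q.O) (Subtype.ext (IsScalarTower.algebraMap_apply k K K' c))
  have : FiniteDimensional k l := Module.finite_of_finrank_pos (deg_pos hK' Q)
  have hfin' : @Module.Finite k l _ _ Algebra.toModule := ‹FiniteDimensional k l›
  have : Module.Finite κ l := @Module.Finite.of_restrictScalars_finite k κ l _ _ _ Algebra.toModule _ _ htower hfin'
  have : Algebra.IsSeparable κ l := Algebra.isSeparable_tower_top_of_isSeparable k κ l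
  obtain ⟨θ, hθ⟩ := Field.exists_primitive_element κ l
  obtain ⟨r, hr⟩ := IsLocalRing.residue_surjective θ
  set S := (finite_over_place (K' := K') hK P).toFinset
  have hmemS : ∀ R : Place k K', IsOver R P → R ∈ S := fun R h => (Set.Finite.mem_toFinset _).2 h
  obtain ⟨a, ha⟩ := approx S (fun R => if R = Q then (r : K') else 0) (fun _ => -1)
  have haQ : Q.1 (a - r) < 1 := by
    rw [lt_one_iff_le]; simpa using ha Q (hmemS Q ⟨e, he⟩)
  have haR : ∀ R : Place k K', IsOver R P → R ≠ Q → R.1 a < 1 := fun R hR hne => by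
    rw [lt_one_iff_le]; simpa [hne] using ha R (hmemS R hR)
  have haQ1 : Q.1 a ≤ 1 := by
    rw [show a = (a - r) + r by ring]
    exact (Valuation.map_add _ _ _).trans (max_le haQ.le r.2)
  have hle : ∀ σ : K' ≃ₐ[K] K', Q.1 (σ a) ≤ 1 ∧ (σ • Q ≠ Q → Q.1 (σ a) < 1) := fun σ => by
    rw [← inv_smul_apply]
    rcases eq_or_ne (σ⁻¹ • Q) Q with h | h
    · rw [h]; exact ⟨haQ1, fun hne => absurd (inv_smul_eq_iff.1 h).symm hne⟩
    · have := haR _ ⟨e, (over_smul_iff σ⁻¹ Q P e).2 he⟩ h
      exact ⟨this.le, fun _ => this⟩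
  set f := minpoly K a
  have hsplit : (f.map (algebraMap K K')).Splits := Normal.splits inferInstance a
  have hroot : ∀ x ∈ f.aroots K', ∃ σ : K' ≃ₐ[K] K', σ a = x := fun x hx =>
    minpoly.exists_algEquiv_of_root' (IsIntegral.of_finite K a).isAlgebraic (mem_aroots'.1 hx).2
  have hrootle : ∀ x ∈ f.aroots K', x ∈ Q.O := fun x hx => by
    obtain ⟨σ, rfl⟩ := hroot x hx; exact (hle σ).1
  -- the coefficients are integral
  have hcoeff : ∀ i, P.1 (f.coeff i) ≤ 1 := fun i => by
    rw [← over_le_iff he, ← coeff_map, hsplit.eq_prod_roots_of_monic ((minpoly.monic (.of_finite K a)).map _)]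
    have h1 : (((f.map (algebraMap K K')).roots.pmap (fun x hx => X - C (⟨x, hx⟩ : Q.O))
        (fun x hx => hrootle x hx)).prod).map Q.O.subtype = ((f.map (algebraMap K K')).roots.map fun x => X - C x).prod := by
      rw [Polynomial.map_multiset_prod, Multiset.map_pmap]
      simp [Multiset.pmap_eq_map]
    rw [← h1, coeff_map]
    exact (show ∀ y : Q.O, Q.1 (Q.O.subtype y) ≤ 1 from fun y => y.2) _
  let f₀ : Polynomial P.O := ∑ i ∈ Finset.range (f.natDegree + 1), monomial i ⟨f.coeff i, hcoeff i⟩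
  have hf₀ : f₀.map (algebraMap P.O K) = f := by
    rw [Polynomial.map_sum]
    conv_rhs => rw [f.as_sum_range]
    simp only [map_monomial]
    rfl
  set R : Polynomial Q.O := ((f.map (algebraMap K K')).roots.pmap (fun x hx => X - C (⟨x, hx⟩ : Q.O))
        (fun x hx => hrootle x hx)).prod
  have hR : f₀.map (algebraMap P.O Q.O) = R := by
    refine Polynomial.map_injective Q.O.subtype Subtype.val_injective ?_
    rw [Polynomial.map_map, show Q.O.subtype.comp (algebraMap P.O Q.O) = (algebraMap K K').comp (algebraMap P.O K) from rfl,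
      ← Polynomial.map_map, hf₀, Polynomial.map_multiset_prod, Multiset.map_pmap]
    conv_lhs => rw [hsplit.eq_prod_roots_of_monic ((minpoly.monic (.of_finite K a)).map _)]
    simp [Multiset.pmap_eq_map]
  set fb := f₀.map (IsLocalRing.residue P.O)
  have hfb : fb.map (algebraMap κ l) = ((f.map (algebraMap K K')).roots.pmap
      (fun x hx => X - C (IsLocalRing.residue Q.O ⟨x, hx⟩)) (fun x hx => hrootle x hx)).prod := by
    rw [Polynomial.map_map, show (algebraMap κ l).comp (IsLocalRing.residue P.O) = (IsLocalRing.residue Q.O).comp (algebraMap P.O Q.O) from rfl,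
      ← Polynomial.map_map, hR, Polynomial.map_multiset_prod, Multiset.map_pmap]
    simp
  have hroots : ∀ η : l, aeval η fb = 0 → η = 0 ∨ ∃ σ : Q.O.decompositionSubgroup K, η = σ • θ := fun η hη => by
    rw [← eval_map_algebraMap, hfb, eval_multiset_prod, Multiset.prod_eq_zero_iff, Multiset.map_pmap, Multiset.mem_pmap] at hη
    obtain ⟨x, hx, hx0⟩ := hη
    rw [eval_sub, eval_X, eval_C, sub_eq_zero] at hx0
    obtain ⟨σ, rfl⟩ := hroot x hx
    subst hx0
    by_cases hσ : σ • Q = Q
    · refine .inr ⟨⟨σ, (smul_eq_iff σ Q).1 hσ⟩, ?_⟩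
      rw [← hr, ← IsLocalRing.ResidueField.residue_smul, ← sub_eq_zero, ← map_sub, residue_lt_iff, AddSubgroupClass.coe_sub]
      show Q.1 (σ a - σ (r : K')) < 1
      rw [← map_sub, v_map hσ]; exact haQ
    · exact .inl ((residue_lt_iff _).2 ((hle σ).2 hσ))
  have hθroot : aeval θ fb = 0 := by
    have hfa : aeval (⟨a, haQ1⟩ : Q.O) f₀ = 0 := Subtype.ext (by
      rw [aeval_def, show ((eval₂ (algebraMap P.O Q.O) ⟨a, haQ1⟩ f₀ : Q.O) : K') = Q.O.subtype (eval₂ (algebraMap P.O Q.O) ⟨a, haQ1⟩ f₀) from rfl,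
        hom_eval₂, show Q.O.subtype.comp (algebraMap P.O Q.O) = (algebraMap K K').comp (algebraMap P.O K) from rfl,
        ← eval₂_map, hf₀]
      exact minpoly.aeval K a)
    have h := congrArg (IsLocalRing.residue Q.O) hfa
    rw [map_zero, aeval_def, hom_eval₂, show IsLocalRing.residue Q.O ⟨a, haQ1⟩ = θ by
      rw [← hr, ← sub_eq_zero, ← map_sub, residue_lt_iff]; exact haQ] at h
    rw [aeval_def, eval₂_map]
    exact h
  have hfix : ∀ (σ : Q.O.decompositionSubgroup K) (c : κ), σ • algebraMap κ l c = algebraMap κ l c := fun σ c => by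
    obtain ⟨c, rfl⟩ := IsLocalRing.residue_surjective c
    show σ • IsLocalRing.residue Q.O (algebraMap P.O Q.O c) = IsLocalRing.residue Q.O (algebraMap P.O Q.O c)
    rw [← IsLocalRing.ResidueField.residue_smul]
    exact congrArg _ (Subtype.ext ((σ : K' ≃ₐ[K] K').commutes (c : K)))
  let act : Q.O.decompositionSubgroup K → (l ≃ₐ[κ] l) := fun σ =>
    AlgEquiv.ofRingEquiv (f := MulSemiringAction.toRingAut (Q.O.decompositionSubgroup K) l σ) (hfix σ)
  set h := minpoly κ θ
  have hhfb : h ∣ fb := minpoly.dvd κ θ hθroot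
  have horb : ((h.map (algebraMap κ l)).roots.toFinset : Set l) = MulAction.orbit (Q.O.decompositionSubgroup K) θ := by
    ext η
    rw [Finset.mem_coe, Multiset.mem_toFinset, ← aroots_def, mem_aroots]
    have hne : h ≠ 0 := minpoly.ne_zero (.of_finite κ θ)
    constructor
    · rintro ⟨-, hη⟩
      rcases hroots η (by obtain ⟨q, hq⟩ := hhfb; rw [hq, map_mul, hη, zero_mul]) with rfl | ⟨σ, rfl⟩
      · have h0 : θ = 0 := by
          by_contra h0
          refine minpoly.coeff_zero_ne_zero (.of_finite κ θ) h0 ?_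
          rw [← map_eq_zero (algebraMap κ l), coeff_zero_eq_eval_zero, ← aeval_algebraMap_apply_eq_algebraMap_eval, map_zero]
          exact hη
        exact h0 ▸ MulAction.mem_orbit_self _
      · exact ⟨σ, rfl⟩
    · rintro ⟨σ, rfl⟩
      refine ⟨hne, ?_⟩
      show aeval (act σ θ) h = 0
      rw [aeval_algEquiv, AlgHom.comp_apply, minpoly.aeval, map_zero]
  have hcard : Nat.card (MulAction.orbit (Q.O.decompositionSubgroup K) θ) = Module.finrank κ l := by
    rw [← horb, Nat.card_coe_set_eq, Set.ncard_coe_finset, Multiset.toFinset_card_of_nodup,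
      ← (?_ : (h.map (algebraMap κ l)).Splits).natDegree_eq_card_roots, natDegree_map,
      ← IntermediateField.adjoin.finrank (.of_finite κ θ), hθ, IntermediateField.finrank_top']
    · refine Splits.of_dvd ?_ ?_ (Polynomial.map_dvd (algebraMap κ l) hhfb)
      · rw [hfb]
        refine Splits.multisetProd fun g hg => ?_
        obtain ⟨x, hx, rfl⟩ := Multiset.mem_pmap.1 hg
        exact Splits.X_sub_C _
      · rw [hfb]
        exact Multiset.prod_ne_zero fun h0 => by
          obtain ⟨x, _, hx⟩ := Multiset.mem_pmap.1 h0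
          exact X_sub_C_ne_zero _ hx
    · exact nodup_roots (Polynomial.Separable.map (Algebra.IsSeparable.isSeparable κ θ))
  have hstab : MulAction.stabilizer (Q.O.decompositionSubgroup K) θ = Q.O.inertiaSubgroup K := by
    ext σ
    rw [MulAction.mem_stabilizer_iff, ValuationSubring.inertiaSubgroup, MonoidHom.mem_ker]
    refine ⟨fun hσ => RingEquiv.ext fun x => ?_, fun hσ => DFunLike.congr_fun hσ θ⟩
    have hx : x ∈ IntermediateField.adjoin κ ({θ} : Set l) := by rw [hθ]; trivial
    show act σ x = x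
    induction hx using IntermediateField.adjoin_induction with
    | mem y hy => rw [Set.mem_singleton_iff.1 hy]; exact hσ
    | algebraMap c => exact AlgEquiv.commutes _ c
    | add y z _ _ hy hz => rw [map_add, hy, hz]
    | inv y _ hy => rw [map_inv₀, hy]
    | mul y z _ _ hy hz => rw [map_mul, hy, hz]
  have hD := card_decomp hK he
  rw [← (Q.O.inertiaSubgroup K).index_mul_card,
    show (Q.O.inertiaSubgroup K).index = Module.finrank κ l by
      rw [← hstab, MulAction.index_stabilizer]; exact hcard,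
    show Q.deg = P.deg * Module.finrank κ l from
      (@Module.finrank_mul_finrank k κ l _ _ _ Algebra.toModule _ Algebra.toModule htower _ _ _ _).symm] at hD
  refine Nat.eq_of_mul_eq_mul_left (Nat.mul_pos (deg_pos hK P) (Module.finrank_pos (R := κ) (M := l))) ?_
  rw [mul_comm _ e, ← hD]; ring

end Groth.Agent.FunFldLib.Gal
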