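import Groth.Agent.FunFldLib.Gal.Inertia
import Mathlib.RingTheory.IntegralDomain
import Mathlib.GroupTheory.SpecificGroups.Cyclic

/-! The graded pieces of the ramification filtration, and intermediate fields. -/

set_option autoImplicit false

open WithZero
open scoped Pointwise

namespace Groth.Agent.FunFldLib.Gal

open FunFld Groth.Agent.FunFldLib

variable {k K K' : Type*} [Field k] [Field K] [Field K'] [Algebra k K] [Algebra K K'] [Algebra k K']
  [IsScalarTower k K K'] {Q : Place k K'} [Algebra.IsSeparable k (IsLocalRing.ResidueField Q.O)]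

omit [Algebra.IsSeparable k (IsLocalRing.ResidueField Q.O)] in
instance tower_mid (E : IntermediateField K K') : IsScalarTower k E K' :=
  IsScalarTower.of_algebraMap_eq fun _ => rfl

theorem residue_eq_of_ram {σ : K' ≃ₐ[K] K'} (hσ : σ ∈ ram Q 1) (u : Q.O) :
    IsLocalRing.residue Q.O ⟨σ u, by show Q.1 (σ u) ≤ 1; rw [v_map (stab_of_le Q hσ)]; exact u.2⟩ =
      IsLocalRing.residue Q.O u := by
  rw [← sub_eq_zero, ← map_sub, residue_lt_iff, lt_one_iff_le]
  exact_mod_cast hσ u u.2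

theorem cyclic_one_two (hK : IsFF0 k K') [Finite (K' ≃ₐ[K] K')] :
    ∃ σ₀ ∈ ram (K := K) Q 1, ∀ σ ∈ ram (K := K) Q 1, ∃ n : ℕ, (σ₀ ^ n)⁻¹ * σ ∈ ram Q 2 := by
  obtain ⟨t, ht0, ht⟩ := exists_exp Q (-1)
  have hmem : ∀ σ : ram (K := K) Q 1, Q.1 ((σ : K' ≃ₐ[K] K') t / t) = 1 := fun σ => by
    rw [map_div₀, v_map (stab_of_le Q σ.2), ht, div_self exp_ne_zero]
  let c : ram (K := K) Q 1 →* IsLocalRing.ResidueField Q.O :=
    { toFun := fun σ => IsLocalRing.residue Q.O ⟨(σ : K' ≃ₐ[K] K') t / t, (hmem σ).le⟩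
      map_one' := by
        rw [← map_one (IsLocalRing.residue Q.O)]
        exact congrArg _ (Subtype.ext (div_self ht0))
      map_mul' := fun σ τ => by
        rw [← residue_eq_of_ram σ.2 ⟨(τ : K' ≃ₐ[K] K') t / t, (hmem τ).le⟩, ← map_mul]
        refine congrArg _ (Subtype.ext ?_)
        have h0 : (σ : K' ≃ₐ[K] K') t ≠ 0 := (_root_.map_ne_zero (σ : K' ≃ₐ[K] K')).2 ht0
        simp only [Subgroup.coe_mul, AlgEquiv.mul_apply, MulMemClass.coe_mul, map_div₀]
        field_simp }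
  have : Finite c.toHomUnits.range := Finite.of_surjective _ (MonoidHom.rangeRestrict_surjective c.toHomUnits)
  obtain ⟨g, hg⟩ := IsCyclic.exists_monoid_generator (α := c.toHomUnits.range)
  obtain ⟨σ₀, hσ₀⟩ := g.2
  refine ⟨σ₀, σ₀.2, fun σ hσ => ?_⟩
  obtain ⟨n, hn⟩ := Submonoid.mem_powers_iff _ _ |>.1 (hg ⟨_, ⟨⟨σ, hσ⟩, rfl⟩⟩)
  refine ⟨n, ?_⟩
  have hn' : c.toHomUnits (σ₀ ^ n) = c.toHomUnits ⟨σ, hσ⟩ := by
    rw [map_pow, hσ₀]; exact congrArg Subtype.val hn
  set ρ : ram (K := K) Q 1 := (σ₀ ^ n)⁻¹ * ⟨σ, hσ⟩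
  have h1 : c ρ = 1 := by
    rw [← MonoidHom.coe_toHomUnits, map_mul, map_inv, hn', inv_mul_cancel, Units.val_one]
  show (ρ : K' ≃ₐ[K] K') ∈ ram Q 2
  refine (mem_ram_iff_parameter hK ρ.2 ht).2 ?_
  rw [← map_one (IsLocalRing.residue Q.O), ← sub_eq_zero, show c ρ = IsLocalRing.residue Q.O ⟨(ρ : K' ≃ₐ[K] K') t / t, (hmem ρ).le⟩ from rfl,
    ← map_sub, residue_lt_iff, lt_one_iff_le, AddSubgroupClass.coe_sub, OneMemClass.coe_one] at h1
  calc Q.1 ((ρ : K' ≃ₐ[K] K') t - t) = Q.1 t * Q.1 ((ρ : K' ≃ₐ[K] K') t / t - 1) := by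
        rw [← map_mul]; congr 1; field_simp
    _ ≤ Q.1 t * exp (-1) := mul_le_mul_right h1 _
    _ = _ := by rw [ht, ← exp_add]; congr 1

theorem elementary (hK : IsFF0 k K') [Finite (K' ≃ₐ[K] K')] {i : ℕ} (hi : 2 ≤ i) {σ τ : K' ≃ₐ[K] K'}
    (hσ : σ ∈ ram Q i) (hτ : τ ∈ ram Q i) :
    σ * τ * σ⁻¹ * τ⁻¹ ∈ ram Q (i + 1) ∧ (ringChar K = 0 → σ ∈ ram Q (i + 1)) ∧
      ∀ p : ℕ, p.Prime → ringChar K = p → σ ^ p ∈ ram Q (i + 1) := by
  obtain ⟨t, ht0, ht⟩ := exists_exp Q (-1)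
  have h1 : ∀ ρ : ram (K := K) Q i, (ρ : K' ≃ₐ[K] K') ∈ ram Q 1 := fun ρ => ram_anti Q (by omega) ρ.2
  have htle : Q.1 t ≤ 1 := ht.le.trans ((exp_le_exp.2 (by omega)).trans_eq exp_zero)
  have hmem : ∀ ρ : ram (K := K) Q i, Q.1 (((ρ : K' ≃ₐ[K] K') t - t) / t ^ i) ≤ 1 := fun ρ => by
    rw [map_div₀, map_pow, ht, ← exp_nsmul, div_le_one₀ exp_pos]
    exact (ρ.2 t htle).trans_eq (by simp)
  let θ : Additive (ram (K := K) Q i) →+ IsLocalRing.ResidueField Q.O :=
    { toFun := fun ρ => IsLocalRing.residue Q.O ⟨((ρ.toMul : K' ≃ₐ[K] K') t - t) / t ^ i, hmem _⟩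
      map_zero' := by
        rw [← map_zero (IsLocalRing.residue Q.O)]
        exact congrArg _ (Subtype.ext (by simp))
      map_add' := fun ρ π => by
        obtain ⟨b, hb⟩ : ∃ b : K', b = ((π.toMul : K' ≃ₐ[K] K') t - t) / t ^ i := ⟨_, rfl⟩
        have hbt : (π.toMul : K' ≃ₐ[K] K') t = t + b * t ^ i := by rw [hb, div_mul_cancel₀ _ (pow_ne_zero _ ht0)]; ring
        rw [← map_add, ← sub_eq_zero, ← map_sub, residue_lt_iff, AddSubgroupClass.coe_sub, AddMemClass.coe_add]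
        set r : K' ≃ₐ[K] K' := (ρ.toMul : K' ≃ₐ[K] K')
        have e : (((ρ + π).toMul : K' ≃ₐ[K] K') t - t) / t ^ i - ((r t - t) / t ^ i + b) =
            r b * ((r t / t) ^ i - 1) + (r b - b) := by
          rw [show ((ρ + π).toMul : K' ≃ₐ[K] K') t = r ((π.toMul : K' ≃ₐ[K] K') t) from rfl, hbt, map_add, map_mul, map_pow,
            div_pow]
          field_simp
          ring
        show Q.1 ((((ρ + π).toMul : K' ≃ₐ[K] K') t - t) / t ^ i - ((r t - t) / t ^ i +
          ((π.toMul : K' ≃ₐ[K] K') t - t) / t ^ i)) < 1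
        rw [← hb, e]
        have hbv : Q.1 b ≤ 1 := hb ▸ hmem π.toMul
        refine (Valuation.map_add _ _ _).trans_lt (max_lt ?_ ?_)
        · rw [map_mul, v_map (stab_of_le Q (h1 ρ.toMul))]
          refine lt_of_le_of_lt (mul_le_of_le_one_left zero_le hbv) ?_
          have hu : Q.1 (r t / t - 1) < 1 := by
            rw [show r t / t - 1 = (r t - t) / t by field_simp, map_div₀, ht, div_lt_one₀ exp_pos]
            exact (ρ.toMul.2 t htle).trans_lt (exp_lt_exp.2 (by omega))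
          have hu' : Q.1 (r t / t) ≤ 1 := by rw [map_div₀, v_map (stab_of_le Q (h1 ρ.toMul)), ht, div_self exp_ne_zero]
          let u : Q.O := ⟨r t / t, hu'⟩
          have hres : IsLocalRing.residue Q.O u = 1 := by
            rw [← map_one (IsLocalRing.residue Q.O), ← sub_eq_zero, ← map_sub, residue_lt_iff]; exact hu
          exact (residue_lt_iff (u ^ i - 1)).1 (by rw [map_sub, map_pow, hres, one_pow, map_one, sub_self])
        · exact (h1 ρ.toMul b hbv).trans_lt ((exp_lt_exp.2 (by omega)).trans_eq exp_zero) }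
  have hker : ∀ ρ : ram (K := K) Q i, θ (Additive.ofMul ρ) = 0 → (ρ : K' ≃ₐ[K] K') ∈ ram Q (i + 1) := fun ρ h => by
    refine (mem_ram_iff_parameter hK (h1 ρ) ht).2 ?_
    have h' : Q.1 (((ρ : K' ≃ₐ[K] K') t - t) / t ^ i) ≤ exp (-1) := (lt_one_iff_le _).1 ((residue_lt_iff _).1 h)
    rw [map_div₀, map_pow, ht, ← exp_nsmul, div_le_iff₀ exp_pos, ← exp_add] at h'
    exact h'.trans (exp_le_exp.2 (by simp))
  let s : ram (K := K) Q i := ⟨σ, hσ⟩
  let s' : ram (K := K) Q i := ⟨τ, hτ⟩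
  have hcast : ∀ n : ℕ, ((n : K) = 0) → (n : IsLocalRing.ResidueField Q.O) = 0 := fun n hn => by
    rw [← map_natCast (algebraMap k K), map_eq_zero] at hn
    rw [← map_natCast (algebraMap k (IsLocalRing.ResidueField Q.O)), hn, map_zero]
  refine ⟨hker (s * s' * s⁻¹ * s'⁻¹) ?_, fun h0 => hker s ?_, fun p hp hchar => hker (s ^ p) ?_⟩
  · simp only [ofMul_mul, ofMul_inv, map_add, map_neg]; abel
  · have : CharZero K := (CharP.ringChar_zero_iff_CharZero K).1 h0
    have : CharZero k := (RingHom.charZero_iff (algebraMap k K).injective).2 inferInstance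
    have : CharZero (IsLocalRing.ResidueField Q.O) := charZero_of_injective_algebraMap (algebraMap k _).injective
    have h := congrArg θ (congrArg Additive.ofMul (pow_card_eq_one' (x := s)))
    rw [ofMul_pow, map_nsmul, ofMul_one, map_zero, nsmul_eq_mul, mul_eq_zero, Nat.cast_eq_zero] at h
    exact h.resolve_left Nat.card_pos.ne'
  · rw [ofMul_pow, map_nsmul, nsmul_eq_mul, hcast p (by rw [← hchar, ringChar.Nat.cast_ringChar]), zero_mul]

omit [Algebra.IsSeparable k (IsLocalRing.ResidueField Q.O)] in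
theorem ram_restrict (Q : Place k K') (E : IntermediateField K K') (i : ℕ) (σ : K' ≃ₐ[E] K') :
    σ ∈ ram Q i ↔ σ.restrictScalars K ∈ ram (K := K) Q i := Iff.rfl

variable [FiniteDimensional K K'] [IsGalois K K']

omit [Algebra.IsSeparable k (IsLocalRing.ResidueField Q.O)] in
theorem card_ram_intermediate (Q : Place k K') (E : IntermediateField K K') :
    Nat.card (ram (K := E) Q 1) = Nat.card ↥(ram (K := K) Q 1 ⊓ E.fixingSubgroup) := by
  refine Nat.card_congr
    { toFun := fun σ => ⟨σ.1.restrictScalars K, σ.2, fun x => σ.1.commutes x⟩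
      invFun := fun σ => ⟨(IntermediateField.fixingSubgroupEquiv E) ⟨σ.1, σ.2.2⟩, σ.2.1⟩
      left_inv := fun σ => Subtype.ext (AlgEquiv.ext fun _ => rfl)
      right_inv := fun σ => Subtype.ext (AlgEquiv.ext fun _ => rfl) }

theorem ram_over_intermediate (hK : IsFF0 k K) (E : IntermediateField K K') {Q₁ : Place k E} {e : ℕ}
    (he : IsOverWith Q Q₁ e) : e = Nat.card ↥(ram (K := K) Q 1 ⊓ E.fixingSubgroup) := by
  rw [← card_ram_intermediate, card_ram_one, card_inertia (ff0_ext hK) he]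

theorem totally_ramified (hK : IsFF0 k K) :
    ∃ Q₁ : Place k (IntermediateField.fixedField (ram (K := K) Q 1)),
      IsOverWith Q Q₁ (Module.finrank (IntermediateField.fixedField (ram (K := K) Q 1)) K') := by
  set K₁ := IntermediateField.fixedField (ram (K := K) Q 1)
  obtain ⟨Q₁, e, -, he⟩ := exists_over (K := K₁) (ff0_ext hK) Q
  refine ⟨Q₁, ?_⟩
  have h := ram_over_intermediate hK K₁ he
  rw [show K₁.fixingSubgroup = ram (K := K) Q 1 from IntermediateField.fixingSubgroup_fixedField _, inf_idem] at h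
  rwa [IntermediateField.finrank_fixedField_eq_card, ← h]

theorem range_eq_iff (hK : IsFF0 k K) (E : IntermediateField K K') :
    Set.range (Q.1.comap (algebraMap E K')) = Set.range (Q.1.comap (algebraMap K K')) ↔
      E ≤ IntermediateField.fixedField (ram (K := K) Q 1) := by
  obtain ⟨P, e, -, he⟩ := exists_over (K := K) hK Q
  obtain ⟨Q₁, f, -, hf⟩ := exists_over (K := E) (ff0_ext hK) Q
  have h1 := ram_over_intermediate hK E hf
  have h2 : e = Nat.card (ram (K := K) Q 1) := by rw [card_ram_one, card_inertia hK he]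
  rw [IntermediateField.le_iff_le]
  constructor
  · intro h
    obtain ⟨y, -, hy⟩ := exists_exp Q₁ (-1)
    obtain ⟨z, hz⟩ : Q.1 (algebraMap E K' y) ∈ Set.range (Q.1.comap (algebraMap K K')) := h ▸ ⟨y, rfl⟩
    rw [hf, hy, ← exp_nsmul] at hz
    have hz0 : z ≠ 0 := fun h0 => by rw [h0, map_zero] at hz; exact exp_ne_zero hz.symm
    rw [show Q.1.comap (algebraMap K K') z = P.1 z ^ e from he z, v_eq_exp P hz0, ← exp_nsmul, exp_inj] at hz
    have hef : e ∣ f := Int.natCast_dvd_natCast.1 ⟨P.ord z, by simp at hz; linarith⟩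
    have hle : Nat.card ↥(ram (K := K) Q 1) ≤ Nat.card ↥(ram (K := K) Q 1 ⊓ E.fixingSubgroup) := by
      rw [← h1, ← h2]; exact Nat.le_of_dvd (over_pos hf) hef
    exact inf_eq_left.1 (Subgroup.eq_of_le_of_card_ge inf_le_left hle)
  · intro h
    rw [inf_eq_left.2 h, ← h2] at h1
    subst h1
    refine Set.Subset.antisymm ?_ ?_
    · rintro _ ⟨y, rfl⟩
      obtain ⟨z, hz⟩ := P.2.2 (Q₁.1 y)
      exact ⟨z, ((he z).trans (by rw [hz])).trans (hf y).symm⟩
    · rintro _ ⟨z, rfl⟩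
      exact ⟨algebraMap K E z, congrArg Q.1 (IsScalarTower.algebraMap_apply K E K' z).symm⟩

end Groth.Agent.FunFldLib.Gal
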